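import Cfsg.Agent.Solvable.Basics
import Cfsg.Agent.LocalB.OddSignalizer
import Cfsg.Agent.Invol.IsolatedApps
import Mathlib

/-!
Odd cores of subgroups, taken inside the ambient group, and square roots of elements of odd order.
-/

set_option autoImplicit false
set_option linter.unusedSectionVars false
set_option linter.style.haveILetI false

namespace CfsgLib.CommClosed

open Subgroup

variable {G : Type*} [Group G] [Finite G]

/-- `K` is normalised by every element of `H`. -/
def NormalizedBy (K : Subgroup G) (H : Set G) : Prop := ∀ h ∈ H, ∀ x ∈ K, h * x * h⁻¹ ∈ K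

/-- The odd core of `H`, as a subgroup of `G`. -/
def core (H : Subgroup G) : Subgroup G := (Cfsg.oddCore ↥H).map H.subtype

theorem core_le (H : Subgroup G) : core H ≤ H := map_subtype_le _

theorem odd_core (H : Subgroup G) : Odd (Nat.card (core H)) := by
  rw [core, card_map_of_injective H.subtype_injective]
  exact LocalB.odd_card_oddCore

theorem odd_of_mem {K : Subgroup G} (hK : Odd (Nat.card K)) {x : G} (hx : x ∈ K) :
    Odd (orderOf x) :=
  hK.of_dvd_nat (K.orderOf_dvd_natCard hx)

theorem core_normalized (H : Subgroup G) : NormalizedBy (core H) H := by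
  rintro h hh _ ⟨x, hx, rfl⟩
  exact ⟨⟨h, hh⟩ * x * ⟨h, hh⟩⁻¹, (Solvable.pPrimeCore_normal (G := ↥H) 2).conj_mem x hx _, rfl⟩

theorem le_core {H U : Subgroup G} (hUH : U ≤ H) (hU : Odd (Nat.card U))
    (hn : NormalizedBy U H) : U ≤ core H := by
  have hN : (U.subgroupOf H).Normal := ⟨fun x hx h => hn h h.2 x hx⟩
  have hc : (Nat.card (U.subgroupOf H)).Coprime 2 := by
    rw [Nat.card_congr (subgroupOfEquivOfLe hUH).toEquiv]
    exact Nat.coprime_two_right.mpr hU
  intro x hx
  exact ⟨⟨x, hUH hx⟩, Solvable.le_pPrimeCore 2 hN hc (show (⟨x, hUH hx⟩ : H) ∈ U.subgroupOf H from hx),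
    rfl⟩

/-- An odd subgroup normalised by a normal subgroup `M` of `H` lies in the odd core of `H`. -/
theorem le_core_of_subnormal {H M U : Subgroup G} (hMH : M ≤ H) (hM : NormalizedBy M H)
    (hUM : U ≤ M) (hU : Odd (Nat.card U)) (hn : NormalizedBy U M) : U ≤ core H := by
  refine le_trans (le_core hUM hU hn) (le_core ((core_le M).trans hMH) (odd_core M) ?_)
  intro h hh x hx
  have hmap : (core M).map (MulAut.conj h).toMonoidHom ≤ core M := by
    refine le_core ?_ ?_ ?_
    · rintro _ ⟨y, hy, rfl⟩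
      exact hM h hh y (core_le M hy)
    · rw [card_map_of_injective (MulAut.conj h).injective]
      exact odd_core M
    · rintro m hm _ ⟨y, hy, rfl⟩
      refine ⟨(h⁻¹ * m * h) * y * (h⁻¹ * m * h)⁻¹, core_normalized M _ ?_ y hy, ?_⟩
      · simpa using hM h⁻¹ (inv_mem hh) m hm
      · simp only [MulEquiv.coe_toMonoidHom, MulAut.conj_apply]
        group
  exact hmap ⟨x, hx, rfl⟩

theorem core_top : core (⊤ : Subgroup G) ≤ Cfsg.oddCore G := by
  refine Solvable.le_pPrimeCore 2 ⟨fun x hx g => core_normalized ⊤ g (mem_top g) x hx⟩ ?_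
  exact Nat.coprime_two_right.mpr (odd_core _)

/-- An odd subgroup normalised by a normal subgroup of `G` is trivial when `O(G) = 1`. -/
theorem eq_one_of_odd_subnormal (hO : Cfsg.oddCore G = ⊥) {M U : Subgroup G} (hM : M.Normal)
    (hUM : U ≤ M) (hU : Odd (Nat.card U)) (hn : NormalizedBy U M) {x : G} (hx : x ∈ U) : x = 1 := by
  have h := core_top (le_core_of_subnormal (H := ⊤) le_top
    (fun g _ y hy => hM.conj_mem y hy g) hUM hU hn hx)
  rwa [hO, mem_bot] at h

theorem le_normalizer_of_normalizedBy {K H : Subgroup G} (h : NormalizedBy K H) :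
    H ≤ normalizer (K : Set G) := by
  intro g hg x
  refine ⟨fun hx => h g hg x hx, fun hx => ?_⟩
  have := h g⁻¹ (inv_mem hg) _ hx
  simpa [mul_assoc] using this

theorem odd_sup {K U : Subgroup G} (hK : Odd (Nat.card K)) (hU : Odd (Nat.card U))
    (h : NormalizedBy K U) : Odd (Nat.card ↥(U ⊔ K)) :=
  (hU.mul hK).of_dvd_nat (Solvable.card_sup_dvd (le_normalizer_of_normalizedBy h))

/-- Closures inherit normalisation. -/
theorem normalizedBy_closure {S : Set G} {H : Set G}
    (h : ∀ g ∈ H, ∀ x ∈ S, g * x * g⁻¹ ∈ closure S) : NormalizedBy (closure S) H := by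
  intro g hg x hx
  have hle : closure S ≤ (closure S).comap (MulAut.conj g).toMonoidHom := by
    rw [closure_le]
    exact fun y hy => h g hg y hy
  exact hle hx

theorem normalizedBy_of_mem_normalizer {K : Subgroup G} {H : Set G}
    (h : H ⊆ normalizer (K : Set G)) : NormalizedBy K H := fun g hg x hx => (h hg x).1 hx

/-! ### Square roots of elements of odd order -/

/-- The square root in `⟨x⟩` of an element of odd order. -/
noncomputable def root (x : G) : G := x ^ ((orderOf x + 1) / 2)

theorem root_mul_self {x : G} (hx : Odd (orderOf x)) : root x * root x = x := by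
  obtain ⟨m, hm⟩ := hx
  rw [root, ← pow_add, show (orderOf x + 1) / 2 + (orderOf x + 1) / 2 = orderOf x + 1 by omega,
    pow_succ, pow_orderOf_eq_one, one_mul]

theorem conj_root (g x : G) : g * root x * g⁻¹ = root (g * x * g⁻¹) := by
  rw [root, root, conj_pow, Invol.orderOf_conj_eq]

theorem root_inv (x : G) : root x⁻¹ = (root x)⁻¹ := by
  rw [root, root, orderOf_inv, inv_pow]

theorem root_mem {K : Subgroup G} {x : G} (hx : x ∈ K) : root x ∈ K := pow_mem hx _

theorem mem_of_sq_mem {K : Subgroup G} {x : G} (hx : Odd (orderOf x)) (h : x * x ∈ K) : x ∈ K := by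
  obtain ⟨m, hm⟩ := hx
  have h1 : (x * x) ^ (m + 1) = x := by
    rw [← sq, ← pow_mul, show 2 * (m + 1) = 2 * m + 1 + 1 by ring, ← hm, pow_succ,
      pow_orderOf_eq_one, one_mul]
  exact h1 ▸ pow_mem h _

theorem eq_one_of_eq_inv {x : G} (hx : Odd (orderOf x)) (h : x = x⁻¹) : x = 1 := by
  refine Invol.eq_one_of_sq_eq_one_of_odd ?_ hx
  rw [sq]
  exact mul_eq_one_iff_eq_inv.2 h

end CfsgLib.CommClosed
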