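import Cfsg.Agent.CommClosed.Core

/-!
An odd order group acted on by commuting involutions is generated by the elements which each of
these involutions centralises or inverts.
-/

set_option autoImplicit false
set_option linter.unusedSectionVars false

namespace CfsgLib.CommClosed

open Subgroup

variable {G : Type*} [Group G] [Finite G]

/-- `x` is centralised or inverted by each element of `V`. -/
def IsEigen (V : Set G) (x : G) : Prop := ∀ v ∈ V, v * x * v⁻¹ = x ∨ v * x * v⁻¹ = x⁻¹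

/-- `y` has the same behaviour as `x` under the elements of `V`. -/
def SameAction (V : Set G) (x y : G) : Prop :=
  ∀ v ∈ V, (v * x * v⁻¹ = x → v * y * v⁻¹ = y) ∧ (v * x * v⁻¹ = x⁻¹ → v * y * v⁻¹ = y⁻¹)

theorem sameAction_trans {V : Set G} {x y z : G} (h : SameAction V x y) (h' : SameAction V y z) :
    SameAction V x z :=
  fun v hv => ⟨fun e => (h' v hv).1 ((h v hv).1 e), fun e => (h' v hv).2 ((h v hv).2 e)⟩

/-- For an involution `v` normalising an odd order group, `i = w c w` with `v` inverting `w` and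
centralising `c`, compatibly with every element commuting with `v`. -/
theorem decomp {X : Subgroup G} (hX : Odd (Nat.card X)) {v : G} (hv : v * v = 1)
    (hn : ∀ x ∈ X, v * x * v⁻¹ ∈ X) {i : G} (hi : i ∈ X) :
    ∃ w ∈ X, ∃ c ∈ X, i = w * c * w ∧ v * w * v⁻¹ = w⁻¹ ∧ v * c * v⁻¹ = c ∧
      ∀ u : G, u * v = v * u → (u * i * u⁻¹ = i → u * w * u⁻¹ = w ∧ u * c * u⁻¹ = c) ∧
        (u * i * u⁻¹ = i⁻¹ → u * w * u⁻¹ = w⁻¹ ∧ u * c * u⁻¹ = c⁻¹) := by
  set j := v * i * v⁻¹ with hj
  have hjX : j ∈ X := hn i hi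
  have hvj : v * j * v⁻¹ = i := by
    have hvi : v⁻¹ = v := inv_eq_of_mul_eq_one_right hv
    simp only [hj, hvi]
    rw [show v * (v * i * v) * v = (v * v) * i * (v * v) by group, hv, one_mul, mul_one]
  set s := root (j * i) with hs
  have hss : s * s = j * i := root_mul_self (odd_of_mem hX (mul_mem hjX hi))
  have hsX : s ∈ X := root_mem (mul_mem hjX hi)
  set p := s * i⁻¹ with hp
  have hpX : p ∈ X := mul_mem hsX (inv_mem hi)
  have hpip : p * i * p = j := by
    rw [hp, inv_mul_cancel_right, ← mul_assoc, hss, mul_inv_cancel_right]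
  set r := root p with hr
  have hrr : r * r = p := root_mul_self (odd_of_mem hX hpX)
  have hrX : r ∈ X := root_mem hpX
  -- conjugation by `v`
  have hvs : v * s * v⁻¹ = i * s * i⁻¹ := by
    rw [hs, conj_root, ← conj_mul, hvj, ← hj, conj_root]
    congr 1
    group
  have hvp : v * p * v⁻¹ = p⁻¹ := by
    have h2 : s * s * i⁻¹ = j := by rw [hss, mul_inv_cancel_right]
    rw [hp, ← conj_mul, hvs, ← conj_inv, ← hj, ← h2]
    group
  have hvr : v * r * v⁻¹ = r⁻¹ := by rw [hr, conj_root, hvp, root_inv]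
  refine ⟨r⁻¹, inv_mem hrX, r * i * r, mul_mem (mul_mem hrX hi) hrX, by group, ?_, ?_, ?_⟩
  · rw [← conj_inv, hvr]
  · rw [← conj_mul, ← conj_mul, hvr, ← hj, ← hpip, ← hrr]
    group
  intro u huv
  have huj : u * j * u⁻¹ = v * (u * i * u⁻¹) * v⁻¹ := by
    rw [hj, show u * (v * i * v⁻¹) * u⁻¹ = (u * v) * i * (u * v)⁻¹ by group, huv]
    group
  constructor
  · intro h
    rw [h, ← hj] at huj
    have h1 : u * s * u⁻¹ = s := by rw [hs, conj_root, ← conj_mul, huj, h]
    have h2 : u * p * u⁻¹ = p := by rw [hp, ← conj_mul, h1, ← conj_inv, h]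
    have h3 : u * r * u⁻¹ = r := by rw [hr, conj_root, h2]
    exact ⟨by rw [← conj_inv, h3], by rw [← conj_mul, ← conj_mul, h3, h]⟩
  · intro h
    rw [h, ← conj_inv, ← hj] at huj
    have h1 : u * s * u⁻¹ = i * s⁻¹ * i⁻¹ := by
      rw [hs, conj_root, ← conj_mul, huj, h, ← root_inv, conj_root]
      congr 1
      group
    have h2 : u * p * u⁻¹ = p⁻¹ := by
      have hi' : u * i⁻¹ * u⁻¹ = i := by rw [← conj_inv, h, inv_inv]
      rw [hp, ← conj_mul, h1, hi']
      group
    have h3 : u * r * u⁻¹ = r⁻¹ := by rw [hr, conj_root, h2, root_inv]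
    exact ⟨by rw [← conj_inv, h3], by rw [← conj_mul, ← conj_mul, h3, h]; group⟩

/-- Generation by eigen elements, keeping track of the action. -/
theorem mem_closure_eigen {X : Subgroup G} (hX : Odd (Nat.card X)) {V : Set G}
    (hsq : ∀ v ∈ V, v * v = 1) (hcomm : ∀ v ∈ V, ∀ w ∈ V, v * w = w * v)
    (hn : NormalizedBy X V) {x : G} (hx : x ∈ X) :
    x ∈ closure {y | y ∈ X ∧ IsEigen V y ∧ SameAction V x y} := by
  classical
  suffices H : ∀ L : Finset G, (∀ v ∈ L, v ∈ V) → ∀ x ∈ X,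
      x ∈ closure {y | y ∈ X ∧ (∀ v ∈ L, v * y * v⁻¹ = y ∨ v * y * v⁻¹ = y⁻¹) ∧ SameAction V x y} by
    refine closure_mono ?_ (H V.toFinite.toFinset (fun v hv => (Set.Finite.mem_toFinset _).1 hv) x hx)
    rintro y ⟨hyX, hy, hs⟩
    exact ⟨hyX, fun v hv => hy v ((Set.Finite.mem_toFinset _).2 hv), hs⟩
  intro L
  induction L using Finset.induction_on with
  | empty =>
    intro _ x hx
    exact subset_closure ⟨hx, by simp, fun v _ => ⟨id, id⟩⟩
  | @insert v L _ ih =>
    intro hL x hx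
    have hvV : v ∈ V := hL v (Finset.mem_insert_self v L)
    refine (closure_le _).2 ?_ (ih (fun w hw => hL w (Finset.mem_insert_of_mem hw)) x hx)
    rintro y ⟨hyX, hye, hys⟩
    obtain ⟨w, hw, c, hc, hy, hvw, hvc, hu⟩ :=
      decomp hX (hsq v hvV) (fun z hz => hn v hvV z hz) hyX
    have hmem : ∀ z ∈ X, (v * z * v⁻¹ = z ∨ v * z * v⁻¹ = z⁻¹) →
        (∀ u ∈ V, (u * y * u⁻¹ = y → u * z * u⁻¹ = z) ∧
          (u * y * u⁻¹ = y⁻¹ → u * z * u⁻¹ = z⁻¹)) →
        z ∈ closure {z | z ∈ X ∧ (∀ u ∈ insert v L, u * z * u⁻¹ = z ∨ u * z * u⁻¹ = z⁻¹) ∧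
          SameAction V x z} := by
      intro z hz hvz hzs
      refine subset_closure ⟨hz, ?_, sameAction_trans hys hzs⟩
      intro u hu'
      rcases Finset.mem_insert.1 hu' with rfl | hu'
      · exact hvz
      · have huV := hL u (Finset.mem_insert_of_mem hu')
        exact (hye u hu').imp (hzs u huV).1 (hzs u huV).2
    have hw' := hmem w hw (Or.inr hvw) (fun u huV =>
      ⟨fun e => ((hu u (hcomm u huV v hvV)).1 e).1, fun e => ((hu u (hcomm u huV v hvV)).2 e).1⟩)
    have hc' := hmem c hc (Or.inl hvc) (fun u huV =>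
      ⟨fun e => ((hu u (hcomm u huV v hvV)).1 e).2, fun e => ((hu u (hcomm u huV v hvV)).2 e).2⟩)
    rw [SetLike.mem_coe, hy]
    exact mul_mem (mul_mem hw' hc') hw'

end CfsgLib.CommClosed
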