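import Cfsg.Agent.CommClosed.Core

/-!
Pairs of conjugation invariant closed families of 2-elements commuting with each other.
-/

set_option autoImplicit false
set_option linter.unusedSectionVars false
set_option linter.style.haveILetI false

namespace CfsgLib.CommClosed

open Subgroup

variable {G : Type*} [Group G]

/-- Two families of 2-elements invariant under conjugation; inside a 2-subgroup each is closed
under products and the two families commute; they have no common nontrivial element. -/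
structure Families (T₁ T₂ : Set G) : Prop where
  conj₁ : ∀ x ∈ T₁, ∀ g : G, g * x * g⁻¹ ∈ T₁
  conj₂ : ∀ x ∈ T₂, ∀ g : G, g * x * g⁻¹ ∈ T₂
  two₁ : ∀ x ∈ T₁, IsPGroup 2 (zpowers x)
  two₂ : ∀ x ∈ T₂, IsPGroup 2 (zpowers x)
  mul₁ : ∀ Q : Subgroup G, IsPGroup 2 Q → ∀ x ∈ T₁, ∀ y ∈ T₁, x ∈ Q → y ∈ Q → x * y ∈ T₁
  mul₂ : ∀ Q : Subgroup G, IsPGroup 2 Q → ∀ x ∈ T₂, ∀ y ∈ T₂, x ∈ Q → y ∈ Q → x * y ∈ T₂
  comm : ∀ Q : Subgroup G, IsPGroup 2 Q → ∀ x ∈ T₁, ∀ y ∈ T₂, x ∈ Q → y ∈ Q → x * y = y * x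
  disj : ∀ x ∈ T₁, x ∈ T₂ → x = 1

namespace Families

variable {T₁ T₂ : Set G} (hF : Families T₁ T₂)
include hF

theorem swap : Families T₂ T₁ :=
  ⟨hF.conj₂, hF.conj₁, hF.two₂, hF.two₁, hF.mul₂, hF.mul₁,
    fun Q hQ x hx y hy hxQ hyQ => (hF.comm Q hQ y hy x hx hyQ hxQ).symm,
    fun x h2 h1 => hF.disj x h1 h2⟩

theorem comap (H : Subgroup G) :
    Families {x : H | (x : G) ∈ T₁} {x : H | (x : G) ∈ T₂} := by
  have two : ∀ x : H, IsPGroup 2 (zpowers (x : G)) → IsPGroup 2 (zpowers x) := by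
    intro x h y
    obtain ⟨k, hk⟩ := Subgroup.mem_zpowers_iff.1 y.2
    obtain ⟨n, hn⟩ := h ⟨(y : H), ⟨k, by rw [← hk]; simp⟩⟩
    exact ⟨n, Subtype.ext (Subtype.ext (congrArg Subtype.val hn :))⟩
  have hQ : ∀ Q : Subgroup H, IsPGroup 2 Q → IsPGroup 2 (Q.map H.subtype) :=
    fun Q h => h.map _
  exact {
    conj₁ := fun x hx g => hF.conj₁ _ hx _
    conj₂ := fun x hx g => hF.conj₂ _ hx _
    two₁ := fun x hx => two x (hF.two₁ _ hx)
    two₂ := fun x hx => two x (hF.two₂ _ hx)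
    mul₁ := fun Q h x hx y hy hxQ hyQ =>
      hF.mul₁ _ (hQ Q h) _ hx _ hy (mem_map_of_mem _ hxQ) (mem_map_of_mem _ hyQ)
    mul₂ := fun Q h x hx y hy hxQ hyQ =>
      hF.mul₂ _ (hQ Q h) _ hx _ hy (mem_map_of_mem _ hxQ) (mem_map_of_mem _ hyQ)
    comm := fun Q h x hx y hy hxQ hyQ => Subtype.ext
      (hF.comm _ (hQ Q h) _ hx _ hy (mem_map_of_mem _ hxQ) (mem_map_of_mem _ hyQ))
    disj := fun x h1 h2 => Subtype.ext (hF.disj _ h1 h2) }

theorem map {K : Type*} [Group K] (π : G →* K) (hπ : Function.Surjective π)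
    (hlift : ∀ Q : Subgroup K, IsPGroup 2 Q → ∃ P : Subgroup G, IsPGroup 2 P ∧
      ∀ x : G, IsPGroup 2 (zpowers x) → π x ∈ Q → ∃ g : G, g * x * g⁻¹ ∈ P ∧ π (g * x * g⁻¹) = π x)
    (hdisj : ∀ x ∈ T₁, ∀ y ∈ T₂, π x = π y → π x = 1) :
    Families (π '' T₁) (π '' T₂) := by
  have hconj : ∀ T : Set G, (∀ x ∈ T, ∀ g : G, g * x * g⁻¹ ∈ T) →
      ∀ x ∈ π '' T, ∀ g : K, g * x * g⁻¹ ∈ π '' T := by
    rintro T hT _ ⟨x, hx, rfl⟩ g
    obtain ⟨g, rfl⟩ := hπ g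
    exact ⟨_, hT x hx g, by simp⟩
  have htwo : ∀ T : Set G, (∀ x ∈ T, IsPGroup 2 (zpowers x)) →
      ∀ x ∈ π '' T, IsPGroup 2 (zpowers x) := by
    rintro T hT _ ⟨x, hx, rfl⟩
    rw [← MonoidHom.map_zpowers]
    exact (hT x hx).map π
  have hmul : ∀ T : Set G, (∀ x ∈ T, ∀ g : G, g * x * g⁻¹ ∈ T) →
      (∀ x ∈ T, IsPGroup 2 (zpowers x)) →
      (∀ Q : Subgroup G, IsPGroup 2 Q → ∀ x ∈ T, ∀ y ∈ T, x ∈ Q → y ∈ Q → x * y ∈ T) →
      ∀ Q : Subgroup K, IsPGroup 2 Q → ∀ x ∈ π '' T, ∀ y ∈ π '' T, x ∈ Q → y ∈ Q →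
        x * y ∈ π '' T := by
    rintro T hT h2 hm Q hQ _ ⟨x, hx, rfl⟩ _ ⟨y, hy, rfl⟩ hxQ hyQ
    obtain ⟨P, hP, hPl⟩ := hlift Q hQ
    obtain ⟨g, hg, hge⟩ := hPl x (h2 x hx) hxQ
    obtain ⟨h, hh, hhe⟩ := hPl y (h2 y hy) hyQ
    exact ⟨_, hm P hP _ (hT x hx g) _ (hT y hy h) hg hh, by rw [map_mul, hge, hhe]⟩
  exact {
    conj₁ := hconj T₁ hF.conj₁
    conj₂ := hconj T₂ hF.conj₂
    two₁ := htwo T₁ hF.two₁
    two₂ := htwo T₂ hF.two₂
    mul₁ := hmul T₁ hF.conj₁ hF.two₁ hF.mul₁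
    mul₂ := hmul T₂ hF.conj₂ hF.two₂ hF.mul₂
    comm := by
      rintro Q hQ _ ⟨x, hx, rfl⟩ _ ⟨y, hy, rfl⟩ hxQ hyQ
      obtain ⟨P, hP, hPl⟩ := hlift Q hQ
      obtain ⟨g, hg, hge⟩ := hPl x (hF.two₁ x hx) hxQ
      obtain ⟨h, hh, hhe⟩ := hPl y (hF.two₂ y hy) hyQ
      rw [← hge, ← hhe, ← map_mul, ← map_mul,
        hF.comm P hP _ (hF.conj₁ x hx g) _ (hF.conj₂ y hy h) hg hh]
    disj := by
      rintro _ ⟨x, hx, rfl⟩ ⟨y, hy, hye⟩
      exact hdisj x hx y hy hye.symm }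

end Families

/-- A subgroup generated by pairwise commuting elements of order at most two is a 2-group. -/
theorem isPGroup_closure_comm {S : Set G} (hsq : ∀ s ∈ S, s * s = 1)
    (hcomm : ∀ s ∈ S, ∀ t ∈ S, s * t = t * s) : IsPGroup 2 (closure S) := by
  have h1 : ∀ x ∈ closure S, ∀ t ∈ S, x * t = t * x := by
    intro x hx t ht
    induction hx using closure_induction with
    | mem s hs => exact hcomm s hs t ht
    | one => simp
    | mul y z _ _ hy hz => rw [mul_assoc, hz, ← mul_assoc, hy, mul_assoc]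
    | inv y _ hy => exact inv_mul_eq_iff_eq_mul.2 (by rw [← mul_assoc, hy, mul_inv_cancel_right])
  have h2 : ∀ x ∈ closure S, ∀ y ∈ closure S, x * y = y * x := by
    intro x hx y hy
    induction hy using closure_induction with
    | mem s hs => exact h1 x hx s hs
    | one => simp
    | mul y z _ _ hy hz => rw [← mul_assoc, hy, mul_assoc, hz, ← mul_assoc]
    | inv y _ hy => exact eq_inv_mul_of_mul_eq (by rw [← mul_assoc, ← hy, mul_inv_cancel_right])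
  have h3 : ∀ x ∈ closure S, x * x = 1 := by
    intro x hx
    induction hx using closure_induction with
    | mem s hs => exact hsq s hs
    | one => simp
    | mul y z hy' hz' hy hz =>
      rw [show y * z * (y * z) = y * (z * y) * z by group, h2 z hz' y hy',
        show y * (y * z) * z = y * y * (z * z) by group, hy, hz, one_mul]
    | inv y _ hy => rw [← mul_inv_rev, hy, inv_one]
  rintro ⟨x, hx⟩
  exact ⟨1, Subtype.ext (by simp [pow_two, h3 x hx])⟩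

end CfsgLib.CommClosed
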