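import Cfsg.Agent.CommClosed.Family
import Cfsg.Agent.CommClosed.Eigen

/-!
Good eigen elements for a product of two four groups taken from commuting closed families.
-/

set_option autoImplicit false
set_option linter.unusedSectionVars false
set_option linter.style.haveILetI false

namespace CfsgLib.CommClosed

open Subgroup

variable {G : Type*} [Group G] [Finite G]

/-- The centralizer of an element. -/
abbrev cent (x : G) : Subgroup G := centralizer ({x} : Set G)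

theorem mem_cent {x y : G} : y ∈ cent x ↔ y * x = x * y := mem_centralizer_singleton_iff

theorem conj_eq_iff {x y : G} : x * y * x⁻¹ = y ↔ x * y = y * x := mul_inv_eq_iff_eq_mul

/-- The inductive hypothesis on proper subgroups. -/
def Local (T₁ T₂ : Set G) : Prop :=
  ∀ H : Subgroup G, H ≠ ⊤ → ∀ a ∈ T₁, ∀ b ∈ T₂, a * a = 1 → b * b = 1 → a ∈ H → b ∈ H →
    a * b * a⁻¹ * b⁻¹ ∈ core H

theorem Local.swap {T₁ T₂ : Set G} (h : Local T₁ T₂) : Local T₂ T₁ := by
  intro H hH a ha b hb ha' hb' haH hbH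
  have := inv_mem (h H hH b hb a ha hb' ha' hbH haH)
  simpa [mul_inv_rev, mul_assoc] using this

/-- A subgroup of exponent two with at least three elements inside a family. -/
structure IsFour (T : Set G) (A : Subgroup G) : Prop where
  sq : ∀ x ∈ A, x * x = 1
  mem : ∀ x ∈ A, x ≠ 1 → x ∈ T
  exists_pair : ∃ p ∈ A, ∃ q ∈ A, p ≠ 1 ∧ q ≠ 1 ∧ p ≠ q

theorem IsFour.comm {T : Set G} {A : Subgroup G} (hA : IsFour T A) :
    ∀ x ∈ A, ∀ y ∈ A, x * y = y * x := fun x hx y hy => by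
  have h1 := inv_eq_of_mul_eq_one_right (hA.sq _ (mul_mem hx hy))
  rw [mul_inv_rev, inv_eq_of_mul_eq_one_right (hA.sq x hx),
    inv_eq_of_mul_eq_one_right (hA.sq y hy)] at h1
  exact h1.symm

/-- The standing configuration. -/
structure Setup (T₁ T₂ : Set G) (A₁ A₂ : Subgroup G) : Prop where
  fam : Families T₁ T₂
  loc : Local T₁ T₂
  four₁ : IsFour T₁ A₁
  four₂ : IsFour T₂ A₂
  comm : ∀ a ∈ A₁, ∀ g ∈ A₂, a * g = g * a
  proper : ∀ f ∈ A₁ ⊔ A₂, f ≠ 1 → cent f ≠ ⊤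

variable {T₁ T₂ : Set G} {A₁ A₂ : Subgroup G}

theorem Setup.swap (hS : Setup T₁ T₂ A₁ A₂) : Setup T₂ T₁ A₂ A₁ :=
  ⟨hS.fam.swap, hS.loc.swap, hS.four₂, hS.four₁, fun a ha g hg => (hS.comm g hg a ha).symm,
    fun f hf => hS.proper f (by rwa [sup_comm] at hf)⟩

/-- The elements of `A₁ A₂`. -/
def acting (A₁ A₂ : Subgroup G) : Set G := (↑(A₁ ⊔ A₂) : Set G)

theorem Setup.mem_acting (hS : Setup T₁ T₂ A₁ A₂) {v : G} (hv : v ∈ A₁ ⊔ A₂) :
    ∃ a ∈ A₁, ∃ g ∈ A₂, a * g = v := by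
  have hn : A₁ ≤ normalizer (A₂ : Set G) := le_normalizer_of_normalizedBy fun a ha x hx => by
    rwa [hS.comm a ha x hx, mul_inv_cancel_right]
  have h : v ∈ ((A₁ ⊔ A₂ : Subgroup G) : Set G) := hv
  rw [coe_mul_of_left_le_normalizer_right A₁ A₂ hn] at h
  obtain ⟨a, ha, g, hg, rfl⟩ := Set.mem_mul.1 h
  exact ⟨a, ha, g, hg, rfl⟩

theorem Setup.acting_comm (hS : Setup T₁ T₂ A₁ A₂) :
    ∀ v ∈ A₁ ⊔ A₂, ∀ w ∈ A₁ ⊔ A₂, v * w = w * v := by
  intro v hv w hw
  obtain ⟨a, ha, g, hg, rfl⟩ := hS.mem_acting hv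
  obtain ⟨b, hb, h, hh, rfl⟩ := hS.mem_acting hw
  calc a * g * (b * h) = a * (g * b) * h := by group
    _ = a * (b * g) * h := by rw [← hS.comm b hb g hg]
    _ = (a * b) * (g * h) := by group
    _ = (b * a) * (h * g) := by rw [hS.four₁.comm a ha b hb, hS.four₂.comm g hg h hh]
    _ = b * (a * h) * g := by group
    _ = b * (h * a) * g := by rw [hS.comm a ha h hh]
    _ = b * h * (a * g) := by group

theorem Setup.acting_sq (hS : Setup T₁ T₂ A₁ A₂) : ∀ v ∈ A₁ ⊔ A₂, v * v = 1 := by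
  intro v hv
  obtain ⟨a, ha, g, hg, rfl⟩ := hS.mem_acting hv
  calc a * g * (a * g) = a * (g * a) * g := by group
    _ = a * (a * g) * g := by rw [← hS.comm a ha g hg]
    _ = (a * a) * (g * g) := by group
    _ = 1 := by rw [hS.four₁.sq a ha, hS.four₂.sq g hg, one_mul]

theorem Setup.le_cent (hS : Setup T₁ T₂ A₁ A₂) {f : G} (hf : f ∈ A₁ ⊔ A₂) : A₁ ⊔ A₂ ≤ cent f :=
  fun v hv => mem_cent.2 (hS.acting_comm v hv f hf)

/-- Good eigen elements. -/
def Good (A₁ A₂ : Subgroup G) (x : G) : Prop :=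
  Odd (orderOf x) ∧ IsEigen (acting A₁ A₂) x ∧
    ((∀ g ∈ A₂, g * x * g⁻¹ = x) → ∃ g ∈ A₂, g ≠ 1 ∧ x ∈ core (cent g)) ∧
    ((∀ a ∈ A₁, a * x * a⁻¹ = x) → ∃ a ∈ A₁, a ≠ 1 ∧ x ∈ core (cent a))

theorem Good.swap {x : G} (h : Good A₁ A₂ x) : Good A₂ A₁ x :=
  ⟨h.1, by rw [acting, sup_comm]; exact h.2.1, h.2.2.2, h.2.2.1⟩

theorem good_swap_iff {x : G} : Good A₂ A₁ x ↔ Good A₁ A₂ x := ⟨Good.swap, Good.swap⟩

theorem Good.inv {x : G} (h : Good A₁ A₂ x) : Good A₁ A₂ x⁻¹ := by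
  obtain ⟨ho, he, h2, h1⟩ := h
  have hc : ∀ v : G, v * x⁻¹ * v⁻¹ = x⁻¹ → v * x * v⁻¹ = x := fun v hv => by
    rwa [← conj_inv, inv_inj] at hv
  refine ⟨by rwa [orderOf_inv], fun v hv => ?_, fun h => ?_, fun h => ?_⟩
  · rcases he v hv with e | e
    · exact Or.inl (by rw [← conj_inv, e])
    · exact Or.inr (by rw [← conj_inv, e])
  · obtain ⟨g, hg, h1, hm⟩ := h2 fun g hg => hc g (h g hg)
    exact ⟨g, hg, h1, inv_mem hm⟩
  · obtain ⟨a, ha, h1', hm⟩ := h1 fun a ha => hc a (h a ha)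
    exact ⟨a, ha, h1', inv_mem hm⟩

/-- A group of exponent two with three elements has a nontrivial element fixing an eigen
element. -/
theorem IsFour.exists_fix {T : Set G} {A : Subgroup G} (hA : IsFour T A) {x : G}
    (hx : IsEigen (A : Set G) x) : ∃ a ∈ A, a ≠ 1 ∧ a * x * a⁻¹ = x := by
  obtain ⟨p, hp, q, hq, hp1, hq1, hpq⟩ := hA.exists_pair
  rcases hx p hp with e | e
  · exact ⟨p, hp, hp1, e⟩
  rcases hx q hq with e' | e'
  · exact ⟨q, hq, hq1, e'⟩
  refine ⟨p * q, mul_mem hp hq, fun h => hpq ?_, ?_⟩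
  · rw [← inv_eq_of_mul_eq_one_right h, inv_eq_of_mul_eq_one_right (hA.sq p hp)]
  · rw [show p * q * x * (p * q)⁻¹ = p * (q * x * q⁻¹) * p⁻¹ by group, e', ← conj_inv, e, inv_inv]

/-- Commutators of two generated subgroups lie in a normalised subgroup if those of generators do. -/
theorem comm_mem_of_closure {O H : Subgroup G} (hO : NormalizedBy O H) {S U : Set G}
    (hS : S ⊆ H) (hU : U ⊆ H) (h : ∀ s ∈ S, ∀ u ∈ U, s * u * s⁻¹ * u⁻¹ ∈ O) :
    ∀ k ∈ closure S, ∀ l ∈ closure U, k * l * k⁻¹ * l⁻¹ ∈ O := by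
  have step : ∀ (S : Set G) (l : G), S ⊆ H → l ∈ H →
      (∀ s ∈ S, s * l * s⁻¹ * l⁻¹ ∈ O) → ∀ k ∈ closure S, k * l * k⁻¹ * l⁻¹ ∈ O := by
    intro S l hS hl h k hk
    induction hk using closure_induction with
    | mem s hs => exact h s hs
    | one => simp
    | mul y z hy hz h1 h2 =>
      rw [show y * z * l * (y * z)⁻¹ * l⁻¹ =
        y * (z * l * z⁻¹ * l⁻¹) * y⁻¹ * (y * l * y⁻¹ * l⁻¹) by group]
      exact mul_mem (hO y ((closure_le _).2 hS hy) _ h2) h1
    | inv y hy h1 =>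
      rw [show y⁻¹ * l * y⁻¹⁻¹ * l⁻¹ = y⁻¹ * (y * l * y⁻¹ * l⁻¹)⁻¹ * y⁻¹⁻¹ by group]
      exact hO _ (inv_mem ((closure_le _).2 hS hy)) _ (inv_mem h1)
  intro k hk l hl
  refine step S l hS ((closure_le _).2 hU hl) (fun s hs => ?_) k hk
  have := step U s hU (hS hs) (fun u hu => by
    have := inv_mem (h s hs u hu)
    simpa [mul_inv_rev, mul_assoc] using this) l hl
  have := inv_mem this
  simpa [mul_inv_rev, mul_assoc] using this

/-- Elements of `O(C(g))` in a section centralised by `g` lie in `O(H)`. -/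
theorem mem_core_of_centralized {H M : Subgroup G} (hMH : M ≤ H) (hM : NormalizedBy M H)
    (hOM : core H ≤ M) {g : G} (hg : g * g = 1)
    (hgM : ∀ m ∈ M, g * m * g⁻¹ * m⁻¹ ∈ core H) {x : G} (hx : x ∈ core (cent g)) (hxM : x ∈ M) :
    x ∈ core H := by
  have hOn : NormalizedBy (core H) M := fun m hm => core_normalized H m (hMH hm)
  set U₀ := core (cent g) ⊓ M with hU₀
  have hodd : Odd (Nat.card ↥(U₀ ⊔ core H)) :=
    odd_sup (odd_core H) ((odd_core (cent g)).of_dvd_nat (card_dvd_of_le inf_le_left))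
      fun u hu => hOn u hu.2
  refine le_core_of_subnormal hMH hM (sup_le inf_le_right hOM) hodd ?_ (mem_sup_left ⟨hx, hxM⟩)
  intro m hm y hy
  obtain ⟨v, hv, hvg⟩ := LocalB.exists_fixed_lift (odd_core H) hg (hgM m hm)
  have hvM : v ∈ M := by
    have := mul_mem (hOM hv) hm
    rwa [inv_mul_cancel_right] at this
  have hm' : m ∈ normalizer ((U₀ ⊔ core H : Subgroup G) : Set G) := by
    have hvn : v ∈ normalizer ((U₀ ⊔ core H : Subgroup G) : Set G) := by
      refine le_normalizer_of_normalizedBy (H := zpowers v) ?_ (mem_zpowers v)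
      intro w hw z hz
      have hwM : w ∈ M := (zpowers_le.2 hvM) hw
      have hwC : w ∈ cent g := (zpowers_le.2 (mem_cent.2 hvg.symm)) hw
      rw [Subgroup.sup_eq_closure] at hz ⊢
      refine normalizedBy_closure (H := {w}) ?_ w rfl z hz
      rintro _ rfl t (⟨ht1, ht2⟩ | ht)
      · refine Subgroup.subset_closure (Set.mem_union_left _ ?_)
        exact Subgroup.mem_inf.2 ⟨core_normalized _ _ hwC t ht1,
          mul_mem (mul_mem hwM ht2) (inv_mem hwM)⟩
      · exact Subgroup.subset_closure (Set.mem_union_right _ (hOn _ hwM t ht))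
    have hon : v * m⁻¹ ∈ normalizer ((U₀ ⊔ core H : Subgroup G) : Set G) :=
      le_normalizer (mem_sup_right hv)
    have := mul_mem (inv_mem hon) hvn
    rwa [mul_inv_rev, inv_inv, inv_mul_cancel_right] at this
  exact (hm' y).1 hy

/-- The involutions of `T` in `H`, as generators. -/
def gens (T : Set G) (H : Subgroup G) : Set G := {t | t ∈ T ∧ t * t = 1 ∧ t ∈ H}

/-- The normal subgroup of `H` generated by `O(H)` and the involutions of `T` in `H`. -/
def part (T : Set G) (H : Subgroup G) : Subgroup G := closure (gens T H ∪ core H)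

theorem part_le (T : Set G) (H : Subgroup G) : part T H ≤ H :=
  (closure_le _).2 (Set.union_subset (fun _ h => h.2.2) (core_le H))

theorem part_normalized {T : Set G} (hT : ∀ x ∈ T, ∀ g : G, g * x * g⁻¹ ∈ T) (H : Subgroup G) :
    NormalizedBy (part T H) H := by
  refine normalizedBy_closure ?_
  rintro h hh t (⟨ht, ht2, htH⟩ | ht)
  · refine subset_closure (Or.inl ⟨hT t ht h, ?_, mul_mem (mul_mem hh htH) (inv_mem hh)⟩)
    rw [conj_mul, ht2, mul_one, mul_inv_cancel]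
  · exact subset_closure (Or.inr (core_normalized H h hh t ht))

theorem part_comm {T₁ T₂ : Set G} (hloc : Local T₁ T₂) {H : Subgroup G} (hH : H ≠ ⊤) :
    ∀ k ∈ part T₁ H, ∀ l ∈ part T₂ H, k * l * k⁻¹ * l⁻¹ ∈ core H := by
  refine comm_mem_of_closure (core_normalized H)
    (Set.union_subset (fun _ h => h.2.2) (core_le H))
    (Set.union_subset (fun _ h => h.2.2) (core_le H)) ?_
  rintro s (⟨hs, hs2, hsH⟩ | hs) u (⟨hu, hu2, huH⟩ | hu)
  · exact hloc H hH s hs u hu hs2 hu2 hsH huH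
  · exact mul_mem (core_normalized H s hsH u hu) (inv_mem hu)
  · rw [show s * u * s⁻¹ * u⁻¹ = s * (u * s⁻¹ * u⁻¹) by group]
    exact mul_mem hs (core_normalized H u huH _ (inv_mem hs))
  · exact mul_mem (mul_mem (mul_mem hs hu) (inv_mem hs)) (inv_mem hu)

theorem sq_mem_part {T : Set G} (hT : ∀ x ∈ T, ∀ g : G, g * x * g⁻¹ ∈ T) {H : Subgroup G} {x a : G}
    (hxH : x ∈ H) (ha : a ∈ T) (ha2 : a * a = 1) (haH : a ∈ H) (h : a * x * a⁻¹ = x⁻¹) :
    x * x ∈ part T H := by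
  have h1 : x * a * x⁻¹ ∈ gens T H :=
    ⟨hT a ha x, by rw [conj_mul, ha2, mul_one, mul_inv_cancel],
      mul_mem (mul_mem hxH haH) (inv_mem hxH)⟩
  have h2 : (x * a * x⁻¹) * a = x * x := by
    have h3 : a * x⁻¹ * a = x := by
      have h4 : a * x⁻¹ * a⁻¹ = x := by rw [← conj_inv, h, inv_inv]
      rwa [inv_eq_of_mul_eq_one_right ha2] at h4
    calc (x * a * x⁻¹) * a = x * (a * x⁻¹ * a) := by group
      _ = x * x := by rw [h3]
  rw [← h2]
  exact mul_mem (subset_closure (Or.inl h1)) (subset_closure (Or.inl ⟨ha, ha2, haH⟩))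

/-- A good element lies in `O(C(f))` whenever it commutes with `f`. -/
theorem good_mem (hS : Setup T₁ T₂ A₁ A₂) {x : G} (hx : Good A₁ A₂ x) {f : G} (hf : f ∈ A₁ ⊔ A₂)
    (hf1 : f ≠ 1) (hfx : f * x * f⁻¹ = x) : x ∈ core (cent f) := by
  obtain ⟨hodd, heig, hA₂, hA₁⟩ := hx
  set H := cent f
  have hH : H ≠ ⊤ := hS.proper f hf hf1
  have hxH : x ∈ H := mem_cent.2 (conj_eq_iff.1 hfx).symm
  have hAH : A₁ ⊔ A₂ ≤ H := hS.le_cent hf
  have hF := hS.fam
  have hc := part_comm hS.loc hH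
  -- membership of the nontrivial elements of the four groups
  have g₁ : ∀ a ∈ A₁, a ≠ 1 → a ∈ part T₁ H := fun a ha h1 => subset_closure
    (Or.inl ⟨hS.four₁.mem a ha h1, hS.four₁.sq a ha, hAH (mem_sup_left ha)⟩)
  have g₂ : ∀ g ∈ A₂, g ≠ 1 → g ∈ part T₂ H := fun g hg h1 => subset_closure
    (Or.inl ⟨hS.four₂.mem g hg h1, hS.four₂.sq g hg, hAH (mem_sup_right hg)⟩)
  have inv₁ : ∀ a ∈ A₁, a * x * a⁻¹ ≠ x → x * x ∈ part T₁ H := by
    intro a ha h
    have ha1 : a ≠ 1 := by rintro rfl; simp at h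
    exact sq_mem_part hF.conj₁ hxH (hS.four₁.mem a ha ha1) (hS.four₁.sq a ha)
      (hAH (mem_sup_left ha)) ((heig a (mem_sup_left ha)).resolve_left h)
  have inv₂ : ∀ g ∈ A₂, g * x * g⁻¹ ≠ x → x * x ∈ part T₂ H := by
    intro g hg h
    have hg1 : g ≠ 1 := by rintro rfl; simp at h
    exact sq_mem_part hF.conj₂ hxH (hS.four₂.mem g hg hg1) (hS.four₂.sq g hg)
      (hAH (mem_sup_right hg)) ((heig g (mem_sup_right hg)).resolve_left h)
  by_cases h1 : ∀ a ∈ A₁, a * x * a⁻¹ = x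
  · obtain ⟨a, ha, ha1, hxa⟩ := hA₁ h1
    have hca : ∀ m ∈ part T₂ H, a * m * a⁻¹ * m⁻¹ ∈ core H := fun m hm => hc a (g₁ a ha ha1) m hm
    have hO2 : core H ≤ part T₂ H := fun o ho => subset_closure (Or.inr ho)
    by_cases h2 : ∀ g ∈ A₂, g * x * g⁻¹ = x
    · obtain ⟨g, hg, hg1, hxg⟩ := hA₂ h2
      have hcg : ∀ m ∈ part T₁ H, g * m * g⁻¹ * m⁻¹ ∈ core H := by
        intro m hm
        have := inv_mem (hc m hm g (g₂ g hg hg1))
        simpa [mul_inv_rev, mul_assoc] using this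
      have hO1 : core H ≤ part T₁ H := fun o ho => subset_closure (Or.inr ho)
      have key : ∀ {T : Set G}, (∀ x ∈ T, ∀ g : G, g * x * g⁻¹ ∈ T) → ∀ {e : G}, e * e = 1 →
          (∀ m ∈ part T H, e * m * e⁻¹ * m⁻¹ ∈ core H) → x ∈ core (cent e) →
          ∀ t ∈ part T H, x * t * x⁻¹ * t⁻¹ ∈ core H := by
        intro T hT e he hem hxe t ht
        obtain ⟨v, hv, hve⟩ := LocalB.exists_fixed_lift (odd_core H) he (hem t ht)
        have hOT : core H ≤ part T H := fun o ho => subset_closure (Or.inr ho)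
        have hvT : v ∈ part T H := by
          have := mul_mem (hOT hv) ht
          rwa [inv_mul_cancel_right] at this
        have hxv : x * v * x⁻¹ * v⁻¹ ∈ core H := by
          refine mem_core_of_centralized (part_le T H) (part_normalized hT H) hOT he hem ?_ ?_
          · rw [show x * v * x⁻¹ * v⁻¹ = x * (v * x⁻¹ * v⁻¹) by group]
            exact mul_mem hxe (core_normalized _ v (mem_cent.2 hve.symm) _ (inv_mem hxe))
          · exact mul_mem (part_normalized hT H x hxH v hvT) (inv_mem hvT)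
        rw [show x * t * x⁻¹ * t⁻¹ = (x * (v * t⁻¹)⁻¹ * x⁻¹) * (x * v * x⁻¹ * v⁻¹) * (v * t⁻¹) by
          group]
        exact mul_mem (mul_mem (core_normalized H x hxH _ (inv_mem hv)) hxv) hv
      have hx1 := key hF.conj₁ (hS.four₂.sq g hg) hcg hxg
      have hx2 := key hF.conj₂ (hS.four₁.sq a ha) hca hxa
      -- the common centralizer of both parts modulo `O(H)`
      let Z : Subgroup G :=
        { carrier := {z | z ∈ H ∧ ∀ t, (t ∈ part T₁ H ∨ t ∈ part T₂ H) →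
            z * t * z⁻¹ * t⁻¹ ∈ core H}
          one_mem' := ⟨one_mem H, fun t _ => by simp⟩
          mul_mem' := by
            rintro y z ⟨hyH, hy⟩ ⟨hzH, hz⟩
            refine ⟨mul_mem hyH hzH, fun t ht => ?_⟩
            rw [show y * z * t * (y * z)⁻¹ * t⁻¹ =
              y * (z * t * z⁻¹ * t⁻¹) * y⁻¹ * (y * t * y⁻¹ * t⁻¹) by group]
            exact mul_mem (core_normalized H y hyH _ (hz t ht)) (hy t ht)
          inv_mem' := by
            rintro y ⟨hyH, hy⟩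
            refine ⟨inv_mem hyH, fun t ht => ?_⟩
            rw [show y⁻¹ * t * y⁻¹⁻¹ * t⁻¹ = y⁻¹ * (y * t * y⁻¹ * t⁻¹)⁻¹ * y⁻¹⁻¹ by group]
            exact core_normalized H _ (inv_mem hyH) _ (inv_mem (hy t ht)) }
      have hZn : NormalizedBy Z H := by
        rintro h hh z ⟨hzH, hz⟩
        refine ⟨mul_mem (mul_mem hh hzH) (inv_mem hh), fun t ht => ?_⟩
        have ht' : h⁻¹ * t * h ∈ part T₁ H ∨ h⁻¹ * t * h ∈ part T₂ H :=
          ht.imp (fun e => by simpa using part_normalized hF.conj₁ H h⁻¹ (inv_mem hh) t e)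
            (fun e => by simpa using part_normalized hF.conj₂ H h⁻¹ (inv_mem hh) t e)
        rw [show h * z * h⁻¹ * t * (h * z * h⁻¹)⁻¹ * t⁻¹ =
          h * (z * (h⁻¹ * t * h) * z⁻¹ * (h⁻¹ * t * h)⁻¹) * h⁻¹ by group]
        exact core_normalized H h hh _ (hz _ ht')
      have hOZ : core H ≤ Z := fun o ho => ⟨core_le H ho, fun t ht => by
        have htH : t ∈ H := ht.elim (fun e => part_le _ H e) (fun e => part_le _ H e)
        rw [show o * t * o⁻¹ * t⁻¹ = o * (t * o⁻¹ * t⁻¹) by group]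
        exact mul_mem ho (core_normalized H t htH _ (inv_mem ho))⟩
      refine mem_core_of_centralized (M := Z) (fun z hz => hz.1) hZn hOZ (hS.four₂.sq g hg) ?_ hxg
        ⟨hxH, fun t ht => ht.elim (hx1 t) (hx2 t)⟩
      rintro z ⟨hzH, hz⟩
      have := inv_mem (hz g (Or.inr (g₂ g hg hg1)))
      simpa [mul_inv_rev, mul_assoc] using this
    · push Not at h2
      obtain ⟨g, hg, hgx⟩ := h2
      exact mem_of_sq_mem hodd (mem_core_of_centralized (part_le T₂ H) (part_normalized hF.conj₂ H)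
        hO2 (hS.four₁.sq a ha) hca (mul_mem hxa hxa) (inv₂ g hg hgx))
  · push Not at h1
    obtain ⟨a, ha, hax⟩ := h1
    have ha1 : a ≠ 1 := by rintro rfl; simp at hax
    have hxx := inv₁ a ha hax
    by_cases h2 : ∀ g ∈ A₂, g * x * g⁻¹ = x
    · obtain ⟨g, hg, hg1, hxg⟩ := hA₂ h2
      refine mem_of_sq_mem hodd (mem_core_of_centralized (part_le T₁ H) (part_normalized hF.conj₁ H)
        (fun o ho => subset_closure (Or.inr ho)) (hS.four₂.sq g hg) ?_ (mul_mem hxg hxg) hxx)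
      intro m hm
      have := inv_mem (hc m hm g (g₂ g hg hg1))
      simpa [mul_inv_rev, mul_assoc] using this
    · push Not at h2
      obtain ⟨g, hg, hgx⟩ := h2
      have h4 := hc a (g₁ a ha ha1) _ (inv₂ g hg hgx)
      have hax' := (heig a (mem_sup_left ha)).resolve_left hax
      rw [← conj_mul, hax'] at h4
      have h5 : x⁻¹ * x⁻¹ * (x * x)⁻¹ = ((x * x) * (x * x))⁻¹ := by group
      rw [h5] at h4
      have hodd2 : Odd (orderOf (x * x)) := hodd.of_dvd_nat (by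
        rw [← sq]; exact orderOf_pow_dvd 2)
      exact mem_of_sq_mem hodd (mem_of_sq_mem hodd2 ((inv_mem_iff).1 h4))

end CfsgLib.CommClosed
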