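import Cfsg.Agent.CommClosed.Main

/-!
The induction, and the case of strongly closed subgroups of a Sylow 2-subgroup.
-/

set_option autoImplicit false
set_option linter.deprecated false
set_option linter.unusedSectionVars false
set_option linter.style.haveILetI false

namespace CfsgLib.CommClosed

open Subgroup

universe u

variable {G : Type u} [Group G] [Finite G] {T₁ T₂ : Set G}

theorem odd_image {K : Type*} [Group K] (π : G →* K) {x : G} (hx : Odd (orderOf x)) :
    Odd (orderOf (π x)) := hx.of_dvd_nat (orderOf_map_dvd π x)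

theorem orderOf_map_two {K : Type*} [Group K] (π : G →* K) {x : G} (hx : orderOf x = 2)
    (h : π x ≠ 1) : orderOf (π x) = 2 :=
  Invol.orderOf_eq_two (by rw [← map_mul, Invol.mul_self_eq_one hx, map_one]) h

/-- In a group with trivial odd core, a normal subgroup with a central subgroup of order two of odd
index is that subgroup. -/
theorem mem_zpowers_of_odd_relIndex (hO : Cfsg.oddCore G = ⊥) {f : G} (hf2 : orderOf f = 2)
    (hfc : ∀ x : G, x * f = f * x) {M : Subgroup G} [M.Normal] (hfM : zpowers f ≤ M)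
    (hodd : Odd ((zpowers f).relIndex M)) : ∀ x ∈ M, x ∈ zpowers f := by
  set N' := (zpowers f).subgroupOf M with hN'
  haveI hN'n : N'.Normal := ⟨fun x hx g => by
    rw [hN', mem_subgroupOf] at hx ⊢
    obtain ⟨k, hk⟩ := Subgroup.mem_zpowers_iff.1 hx
    refine ⟨k, ?_⟩
    have hcg : Commute (g : G) (f ^ k) := (show Commute (g : G) f from hfc g).zpow_right k
    simp only [Subgroup.coe_mul, Subgroup.coe_inv, ← hk]
    rw [hcg.eq, mul_inv_cancel_right]⟩
  have hcardN : Nat.card N' = 2 := by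
    rw [hN', Nat.card_congr (subgroupOfEquivOfLe hfM).toEquiv, Nat.card_zpowers, hf2]
  obtain ⟨C, hC⟩ := Subgroup.exists_right_complement'_of_coprime (N := N') (by
    rw [hcardN]; exact Nat.coprime_two_left.2 hodd)
  have hCodd : Odd (Nat.card C) := by
    have h1 := hC.card_mul_card
    rw [← N'.card_mul_index] at h1
    rw [Nat.eq_of_mul_eq_mul_left Nat.card_pos h1]
    exact hodd
  set Cg := C.map M.subtype with hCg
  have hCgodd : Odd (Nat.card Cg) := by
    rw [hCg, card_map_of_injective M.subtype_injective]; exact hCodd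
  have hCn : Cg.Normal := by
    refine ⟨fun z hz g => ?_⟩
    have hzM : z ∈ M := map_subtype_le _ hz
    have hwodd : Odd (orderOf (g * z * g⁻¹)) := by
      rw [Invol.orderOf_conj_eq]; exact odd_of_mem hCgodd hz
    set w := g * z * g⁻¹ with hw
    obtain ⟨⟨⟨e, he⟩, ⟨c, hc⟩⟩, hec⟩ :=
      hC.2 (⟨w, (inferInstance : M.Normal).conj_mem z hzM g⟩ : M)
    have hec' : (e : G) * c = w := congrArg Subtype.val hec
    have he' : (e : G) ∈ zpowers f := mem_subgroupOf.1 he
    obtain ⟨k, hk⟩ := Subgroup.mem_zpowers_iff.1 he'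
    rcases Int.even_or_odd' k with ⟨m, rfl | rfl⟩
    · rw [zpow_mul, zpow_two, Invol.mul_self_eq_one hf2, one_zpow] at hk
      rw [← hec', ← hk, one_mul]
      exact ⟨c, hc, rfl⟩
    · exfalso
      rw [zpow_add, zpow_mul, zpow_two, Invol.mul_self_eq_one hf2, one_zpow, one_mul, zpow_one] at hk
      rw [← hk] at hec'
      have hcodd : Odd (orderOf (c : G)) := odd_of_mem hCgodd ⟨c, hc, rfl⟩
      have hcomm : Commute f (c : G) := (hfc c).symm
      have h1 : w ^ (orderOf w * orderOf (c : G)) = 1 := by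
        rw [pow_mul, pow_orderOf_eq_one, one_pow]
      have h2 : (c : G) ^ (orderOf w * orderOf (c : G)) = 1 := by
        rw [mul_comm, pow_mul, pow_orderOf_eq_one, one_pow]
      conv at h1 => arg 1; arg 1; rw [← hec']
      rw [hcomm.mul_pow, h2, mul_one] at h1
      have h3 := orderOf_dvd_of_pow_eq_one h1
      rw [hf2] at h3
      exact (Nat.not_even_iff_odd.2 (hwodd.mul hcodd)) (even_iff_two_dvd.2 h3)
  have hbot : Cg = ⊥ := le_bot_iff.1 (hO ▸ Solvable.le_pPrimeCore 2 hCn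
    (Nat.coprime_two_right.2 hCgodd))
  intro x hx
  obtain ⟨⟨⟨e, he⟩, ⟨c, hc⟩⟩, hec⟩ := hC.2 (⟨x, hx⟩ : M)
  have hc1 : (c : G) ∈ Cg := ⟨c, hc, rfl⟩
  rw [hbot, mem_bot] at hc1
  have hec' : (e : G) * c = x := congrArg Subtype.val hec
  rw [← hec', hc1, mul_one]
  exact mem_subgroupOf.1 he

/-- The case of a central involution in the first family. -/
theorem commute_of_central (hO : Cfsg.oddCore G = ⊥) (hF : Families T₁ T₂)
    (IH : ∀ (K : Type u) [Group K] [Finite K], Nat.card K < Nat.card G →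
      ∀ U₁ U₂ : Set K, Families U₁ U₂ → ∀ a ∈ U₁, ∀ b ∈ U₂, orderOf a = 2 → orderOf b = 2 →
        a * b * a⁻¹ * b⁻¹ ∈ Cfsg.oddCore K)
    {f : G} (hfT : f ∈ T₁) (hf2 : orderOf f = 2) (hf : cent f = ⊤) {a b : G} (ha : a ∈ T₁)
    (hb : b ∈ T₂) (ha2 : orderOf a = 2) (hb2 : orderOf b = 2) : a * b = b * a := by
  haveI : Fact (Nat.Prime 2) := ⟨Nat.prime_two⟩
  have hfc : ∀ x : G, x * f = f * x := fun x => mem_cent.1 (hf ▸ mem_top x)
  have hff := Invol.mul_self_eq_one hf2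
  rcases eq_or_ne a f with rfl | haf
  · exact (hfc b).symm
  set N := zpowers f with hN
  have hNmem : ∀ x ∈ N, x = 1 ∨ x = f := by
    intro x hx
    obtain ⟨k, rfl⟩ := Subgroup.mem_zpowers_iff.1 hx
    rcases Int.even_or_odd' k with ⟨m, rfl | rfl⟩
    · left; rw [zpow_mul, zpow_two, hff, one_zpow]
    · right; rw [zpow_add, zpow_mul, zpow_two, hff, one_zpow, one_mul, zpow_one]
  haveI hNn : N.Normal := ⟨fun x hx g => by
    rcases hNmem x hx with rfl | rfl
    · simp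
    · rw [hfc g, mul_inv_cancel_right]; exact hx⟩
  set π := QuotientGroup.mk' N with hπ
  have hker : ∀ x : G, π x = 1 → x = 1 ∨ x = f := fun x hx =>
    hNmem x ((QuotientGroup.eq_one_iff x).1 hx)
  have hfπ : π f = 1 := (QuotientGroup.eq_one_iff f).2 (mem_zpowers f)
  have hlift : ∀ Q : Subgroup (G ⧸ N), IsPGroup 2 Q → IsPGroup 2 (Q.comap π) := by
    rintro Q hQ ⟨x, hx⟩
    obtain ⟨k, hk⟩ := hQ ⟨π x, hx⟩
    have hk' : π (x ^ 2 ^ k) = 1 := by rw [map_pow]; exact congrArg Subtype.val hk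
    refine ⟨k + 1, Subtype.ext ?_⟩
    show x ^ 2 ^ (k + 1) = 1
    rw [pow_succ, pow_mul]
    rcases hker _ hk' with e | e <;> rw [e]
    · exact one_pow _
    · rw [sq, hff]
  have hQmap : Families (π '' T₁) (π '' T₂) := by
    refine hF.map π (QuotientGroup.mk'_surjective N) (fun Q hQ => ⟨Q.comap π, hlift Q hQ,
      fun x _ hx => ⟨1, by simpa using hx, by simp⟩⟩) ?_
    intro x hx y hy hxy
    have hQ : IsPGroup 2 ((zpowers (π y)).comap π) :=
      hlift _ (by rw [← MonoidHom.map_zpowers]; exact (hF.two₂ y hy).map π)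
    have hy' : y ∈ (zpowers (π y)).comap π := mem_zpowers (π y)
    have hx' : x ∈ (zpowers (π y)).comap π := by
      show π x ∈ zpowers (π y)
      rw [hxy]; exact mem_zpowers _
    have hf' : f ∈ (zpowers (π y)).comap π := by
      show π f ∈ zpowers (π y)
      rw [hfπ]; exact one_mem _
    have hyx : π (x⁻¹ * y) = 1 := by rw [map_mul, map_inv, hxy, inv_mul_cancel]
    have hy1 : y ∈ T₁ := by
      rcases hker _ hyx with e | e
      · rwa [← inv_mul_eq_one.1 e]
      · rw [inv_mul_eq_iff_eq_mul.1 e]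
        exact hF.mul₁ _ hQ x hx f hfT hx' hf'
    rw [hxy, hF.disj y hy1 hy, map_one]
  have ha' : π a ≠ 1 := fun h => (hker a h).elim (Invol.ne_one ha2) haf
  have hb' : π b ≠ 1 := fun h => (hker b h).elim (Invol.ne_one hb2)
    fun e => Invol.ne_one hb2 (hF.disj b (e ▸ hfT) hb)
  have hlt : Nat.card (G ⧸ N) < Nat.card G := Solvable.card_quotient_lt (by
    intro h
    have hfN : f ∈ N := mem_zpowers f
    rw [h, mem_bot] at hfN
    exact Invol.ne_one hf2 hfN)
  have hc := IH (G ⧸ N) hlt _ _ hQmap _ ⟨a, ha, rfl⟩ _ ⟨b, hb, rfl⟩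
    (orderOf_map_two π ha2 ha') (orderOf_map_two π hb2 hb')
  rw [← map_inv, ← map_mul, ← map_inv, ← map_mul, ← map_mul] at hc
  -- the preimage of the odd core is `N`
  set M := (Cfsg.oddCore (G ⧸ N)).comap π with hMdef
  haveI hMn : M.Normal := (Solvable.pPrimeCore_normal (G := G ⧸ N) 2).comap π
  have hNM : N ≤ M := fun z hz => by
    show π z ∈ Cfsg.oddCore (G ⧸ N)
    rw [show π z = 1 from (QuotientGroup.eq_one_iff z).2 hz]
    exact one_mem _
  have hrel : Odd (N.relIndex M) := by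
    have h := relIndex_ker M π
    rw [hπ, QuotientGroup.ker_mk'] at h
    rw [h, hMdef, ← hπ, map_comap_eq_self_of_surjective (QuotientGroup.mk'_surjective N)]
    exact LocalB.odd_card_oddCore
  set c := a * b * a⁻¹ * b⁻¹ with hc'
  have hcf : c = 1 ∨ c = f :=
    hNmem _ (mem_zpowers_of_odd_relIndex hO hf2 hfc hNM hrel c hc)
  rcases hcf with e | e
  · rwa [hc', mul_inv_eq_one, mul_inv_eq_iff_eq_mul] at e
  -- now `⟨a, b⟩` is a 2-group
  have hab2 : π a * π b = π b * π a := by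
    rw [← map_mul, ← map_mul, show a * b = c * (b * a) by rw [hc']; group, map_mul, e, hfπ, one_mul]
  have hQ : IsPGroup 2 (closure ({π a, π b} : Set (G ⧸ N))) :=
    isPGroup_pair (by rw [← map_mul, Invol.mul_self_eq_one ha2, map_one])
      (by rw [← map_mul, Invol.mul_self_eq_one hb2, map_one]) hab2
  exact hF.comm _ (hlift _ hQ) a ha b hb (subset_closure (Or.inl rfl))
    (subset_closure (Or.inr rfl))

/-- Two commuting closed families: involutions commute modulo the odd core. -/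
theorem comm_mem_oddCore : ∀ (G : Type u) [Group G] [Finite G] (T₁ T₂ : Set G), Families T₁ T₂ →
    ∀ a ∈ T₁, ∀ b ∈ T₂, orderOf a = 2 → orderOf b = 2 →
      a * b * a⁻¹ * b⁻¹ ∈ Cfsg.oddCore G := by
  intro G
  induction hn : Nat.card G using Nat.strong_induction_on generalizing G with
  | _ n ih =>
  subst hn
  intro _ _ T₁ T₂ hF a ha b hb ha2 hb2
  haveI : Fact (Nat.Prime 2) := ⟨Nat.prime_two⟩
  have IH : ∀ (K : Type u) [Group K] [Finite K], Nat.card K < Nat.card G →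
      ∀ U₁ U₂ : Set K, Families U₁ U₂ → ∀ a ∈ U₁, ∀ b ∈ U₂, orderOf a = 2 → orderOf b = 2 →
        a * b * a⁻¹ * b⁻¹ ∈ Cfsg.oddCore K := fun K _ _ hK => ih _ hK K rfl
  by_cases hO : Cfsg.oddCore G = ⊥
  swap
  · set O := Cfsg.oddCore G with hOdef
    haveI : O.Normal := Solvable.pPrimeCore_normal 2
    set π := QuotientGroup.mk' O with hπ
    have hodd : Odd (Nat.card O) := LocalB.odd_card_oddCore
    have hker : ∀ x : G, IsPGroup 2 (zpowers x) → π x = 1 → x = 1 := by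
      intro x hx hx1
      obtain ⟨k, hk⟩ := hx ⟨x, mem_zpowers x⟩
      have h1 : orderOf x ∣ 2 ^ k :=
        orderOf_dvd_of_pow_eq_one (by simpa using congrArg Subtype.val hk)
      have h2 := O.orderOf_dvd_natCard ((QuotientGroup.eq_one_iff x).1 hx1)
      exact orderOf_eq_one_iff.1
        (Nat.eq_one_of_dvd_coprimes ((Nat.coprime_two_left.2 hodd).pow_left k) h1 h2)
    have habs : ∀ Q : Subgroup (G ⧸ O), IsPGroup 2 Q → ∃ P : Subgroup G, IsPGroup 2 P ∧
        ∀ x : G, IsPGroup 2 (zpowers x) → π x ∈ Q →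
          ∃ g : G, g * x * g⁻¹ ∈ P ∧ π (g * x * g⁻¹) = π x := by
      intro Q hQ
      obtain ⟨P, hP, -, -, hPabs⟩ := exists_absorbing (P := Q.comap π) (N := O)
        (fun g _ y hy => (inferInstance : O.Normal).conj_mem y hy g)
        (fun p hp => by
          obtain ⟨k, hk⟩ := hQ ⟨π p, hp⟩
          exact ⟨k, (QuotientGroup.eq_one_iff (N := O) _).1 (by
            rw [← QuotientGroup.mk'_apply, map_pow]; exact congrArg Subtype.val hk)⟩)
        (Q₀ := ⊥) IsPGroup.of_bot bot_le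
      refine ⟨P, hP, fun x hx2 hxQ => ?_⟩
      obtain ⟨m, hm, hmx⟩ := hPabs x hxQ hx2
      refine ⟨m, hmx, ?_⟩
      rw [map_mul, map_mul, map_inv, show π m = 1 from (QuotientGroup.eq_one_iff m).2 hm, one_mul,
        inv_one, mul_one]
    have hmap : Families (π '' T₁) (π '' T₂) := by
      refine hF.map π (QuotientGroup.mk'_surjective O) habs ?_
      intro x hx y hy hxy
      obtain ⟨P, hP, hPl⟩ := habs (zpowers (π x))
        (by rw [← MonoidHom.map_zpowers]; exact (hF.two₁ x hx).map π)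
      obtain ⟨g, hg, hge⟩ := hPl x (hF.two₁ x hx) (mem_zpowers _)
      obtain ⟨h, hh, hhe⟩ := hPl y (hF.two₂ y hy) (hxy ▸ mem_zpowers _)
      have hd : g * x * g⁻¹ = h * y * h⁻¹ := by
        refine inv_mul_eq_one.1 (hker _ ?_ ?_)
        · exact hP.to_le (zpowers_le.2 (mul_mem (inv_mem hg) hh))
        · rw [map_mul, map_inv, hge, hhe, hxy, inv_mul_cancel]
      have h1 : g * x * g⁻¹ = 1 :=
        hF.disj _ (hF.conj₁ x hx g) (hd ▸ hF.conj₂ y hy h)
      rw [← hge, h1, map_one]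
    have hlt : Nat.card (G ⧸ O) < Nat.card G := Solvable.card_quotient_lt hO
    have hne : ∀ x : G, orderOf x = 2 → π x ≠ 1 := fun x hx h =>
      Invol.ne_one hx (hker x (IsPGroup.of_card (n := 1) (by rw [Nat.card_zpowers, hx, pow_one])) h)
    have := IH (G ⧸ O) hlt _ _ hmap _ ⟨a, ha, rfl⟩ _ ⟨b, hb, rfl⟩
      (orderOf_map_two π ha2 (hne a ha2)) (orderOf_map_two π hb2 (hne b hb2))
    rw [LocalB.oddCore_quotient, mem_bot, ← map_inv, ← map_mul, ← map_inv, ← map_mul,
      ← map_mul] at this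
    exact (QuotientGroup.eq_one_iff _).1 this
  suffices h : a * b = b * a by rw [h, mul_inv_cancel_right, mul_inv_cancel]; exact one_mem _
  have hloc : Local T₁ T₂ := by
    intro H hH x hx y hy hx2 hy2 hxH hyH
    rcases eq_or_ne x 1 with rfl | hx1
    · simp
    rcases eq_or_ne y 1 with rfl | hy1
    · simp
    exact ⟨_, IH H (Solvable.card_lt_of_ne_top hH) _ _ (hF.comap H) ⟨x, hxH⟩ hx ⟨y, hyH⟩ hy
      (by rw [← Subgroup.orderOf_coe]; exact Invol.orderOf_eq_two hx2 hx1)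
      (by rw [← Subgroup.orderOf_coe]; exact Invol.orderOf_eq_two hy2 hy1), rfl⟩
  by_cases hc : ∃ f, (f ∈ T₁ ∨ f ∈ T₂) ∧ orderOf f = 2 ∧ cent f = ⊤
  · obtain ⟨f, hf | hf, hf2, hfc⟩ := hc
    · exact commute_of_central hO hF IH hf hf2 hfc ha hb ha2 hb2
    · exact (commute_of_central hO hF.swap IH hf hf2 hfc hb ha hb2 ha2).symm
  have hM : Minimal T₁ T₂ :=
    ⟨hF, hloc, hO, fun f hf hf2 hfc => hc ⟨f, hf, hf2, hfc⟩⟩
  by_cases hX : normalClosure ({b} : Set G) ⊔ zpowers a = ⊤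
  · exact commute_of_minimal hM ha hb ha2 hb2 hX
  set N := normalClosure ({b} : Set G) with hN
  set X := N ⊔ zpowers a
  have haX : a ∈ X := mem_sup_right (mem_zpowers a)
  have hbN : b ∈ N := subset_normalClosure rfl
  have h1 := hloc X hX a ha b hb (Invol.mul_self_eq_one ha2) (Invol.mul_self_eq_one hb2) haX
    (mem_sup_left hbN)
  have h2 : a * b * a⁻¹ * b⁻¹ ∈ N :=
    mul_mem (normalClosure_normal.conj_mem b hbN a) (inv_mem hbN)
  have h3 := eq_one_of_odd_subnormal hO normalClosure_normal (U := core X ⊓ N) inf_le_right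
    ((odd_core X).of_dvd_nat (card_dvd_of_le inf_le_left))
    (fun v hv x hx => ⟨core_normalized X v (mem_sup_left hv) x hx.1,
      normalClosure_normal.conj_mem x hx.2 v⟩) (x := a * b * a⁻¹ * b⁻¹) ⟨h1, h2⟩
  rwa [mul_inv_eq_one, mul_inv_eq_iff_eq_mul] at h3

/-! ### Strongly closed subgroups -/

/-- The conjugates of the elements of `A`. -/
def conjugates (A : Subgroup G) : Set G := {x | ∃ g : G, g * x * g⁻¹ ∈ A}

theorem self_mem_conjugates {A : Subgroup G} {x : G} (hx : x ∈ A) : x ∈ conjugates A :=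
  ⟨1, by simpa using hx⟩

theorem families_of_stronglyClosed {G : Type u} [Group G] [Finite G] (S : Sylow 2 G)
    {S₁ S₂ : Subgroup G} (h₁ : Cfsg.IsStronglyClosed S₁ (S : Subgroup G))
    (h₂ : Cfsg.IsStronglyClosed S₂ (S : Subgroup G)) (hc : ∀ a ∈ S₁, ∀ b ∈ S₂, a * b = b * a)
    (hd : S₁ ⊓ S₂ = ⊥) : Families (conjugates S₁) (conjugates S₂) := by
  haveI : Fact (Nat.Prime 2) := ⟨Nat.prime_two⟩
  have hconj : ∀ A : Subgroup G, ∀ x ∈ conjugates A, ∀ g : G, g * x * g⁻¹ ∈ conjugates A := by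
    rintro A x ⟨h, hh⟩ g
    exact ⟨h * g⁻¹, by rwa [show h * g⁻¹ * (g * x * g⁻¹) * (h * g⁻¹)⁻¹ = h * x * h⁻¹ by group]⟩
  have htwo : ∀ A : Subgroup G, Cfsg.IsStronglyClosed A (S : Subgroup G) →
      ∀ x ∈ conjugates A, IsPGroup 2 (zpowers x) := by
    rintro A hA x ⟨h, hh⟩
    obtain ⟨k, hk⟩ := S.isPGroup' ⟨_, hA.1 hh⟩
    have hk' : x ^ 2 ^ k = 1 := by
      have : (h * x * h⁻¹) ^ 2 ^ k = 1 := by simpa using congrArg Subtype.val hk
      rwa [conj_pow, mul_inv_eq_one, mul_eq_left] at this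
    rintro ⟨y, hy⟩
    obtain ⟨m, rfl⟩ := Subgroup.mem_zpowers_iff.1 hy
    exact ⟨k, Subtype.ext (by
      show (x ^ m) ^ 2 ^ k = 1
      rw [← zpow_natCast, zpow_comm, zpow_natCast, hk', one_zpow])⟩
  have hinto : ∀ Q : Subgroup G, IsPGroup 2 Q → ∃ g : G, ∀ x ∈ Q, g * x * g⁻¹ ∈ S := by
    intro Q hQ
    obtain ⟨R, hR⟩ := hQ.exists_le_sylow
    obtain ⟨g, hg⟩ := MulAction.exists_smul_eq G R S
    exact ⟨g, fun x hx => by rw [← hg]; exact ⟨x, hR hx, rfl⟩⟩
  have hland : ∀ A : Subgroup G, Cfsg.IsStronglyClosed A (S : Subgroup G) → ∀ g : G,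
      ∀ x ∈ conjugates A, g * x * g⁻¹ ∈ S → g * x * g⁻¹ ∈ A := by
    rintro A hA g x ⟨h, hh⟩ hgx
    have := hA.2 _ hh (g * h⁻¹) (by
      rwa [show g * h⁻¹ * (h * x * h⁻¹) * (g * h⁻¹)⁻¹ = g * x * g⁻¹ by group])
    rwa [show g * h⁻¹ * (h * x * h⁻¹) * (g * h⁻¹)⁻¹ = g * x * g⁻¹ by group] at this
  have hmul : ∀ A : Subgroup G, Cfsg.IsStronglyClosed A (S : Subgroup G) →
      ∀ Q : Subgroup G, IsPGroup 2 Q → ∀ x ∈ conjugates A, ∀ y ∈ conjugates A, x ∈ Q → y ∈ Q →
        x * y ∈ conjugates A := by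
    intro A hA Q hQ x hx y hy hxQ hyQ
    obtain ⟨g, hg⟩ := hinto Q hQ
    refine ⟨g, ?_⟩
    rw [← conj_mul]
    exact mul_mem (hland A hA g x hx (hg x hxQ)) (hland A hA g y hy (hg y hyQ))
  exact {
    conj₁ := hconj S₁
    conj₂ := hconj S₂
    two₁ := htwo S₁ h₁
    two₂ := htwo S₂ h₂
    mul₁ := hmul S₁ h₁
    mul₂ := hmul S₂ h₂
    comm := fun Q hQ x hx y hy hxQ hyQ => by
      obtain ⟨g, hg⟩ := hinto Q hQ
      have h := hc _ (hland S₁ h₁ g x hx (hg x hxQ)) _ (hland S₂ h₂ g y hy (hg y hyQ))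
      rw [conj_mul, conj_mul] at h
      exact mul_left_cancel (mul_right_cancel h)
    disj := by
      rintro x ⟨g, hg⟩ hx
      have h2 := hland S₂ h₂ g x hx (h₁.1 hg)
      have : g * x * g⁻¹ ∈ S₁ ⊓ S₂ := ⟨hg, h2⟩
      rwa [hd, mem_bot, mul_inv_eq_one, mul_eq_left] at this }

/-- Disjoint commuting strongly closed subgroups generated by involutions have commuting normal
closures when `O(G) = 1`. -/
theorem normalClosure_comm {G : Type u} [Group G] [Finite G] (hO : Cfsg.oddCore G = ⊥)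
    (S : Sylow 2 G) {S₁ S₂ : Subgroup G} (h₁ : Cfsg.IsStronglyClosed S₁ (S : Subgroup G))
    (h₂ : Cfsg.IsStronglyClosed S₂ (S : Subgroup G)) (hc : ∀ a ∈ S₁, ∀ b ∈ S₂, a * b = b * a)
    (hd : S₁ ⊓ S₂ = ⊥) (g₁ : S₁ ≤ closure {x | x ∈ S₁ ∧ orderOf x = 2})
    (g₂ : S₂ ≤ closure {x | x ∈ S₂ ∧ orderOf x = 2}) :
    ∀ x ∈ normalClosure (S₁ : Set G), ∀ y ∈ normalClosure (S₂ : Set G), x * y = y * x := by
  have hF := families_of_stronglyClosed S h₁ h₂ hc hd
  have hgen : ∀ A : Subgroup G, A ≤ closure {x | x ∈ A ∧ orderOf x = 2} →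
      normalClosure (A : Set G) ≤ closure {x | x ∈ conjugates A ∧ orderOf x = 2} := by
    intro A hA
    refine (closure_le _).2 ?_
    intro x hx
    obtain ⟨y, hy, hxy⟩ := Group.mem_conjugatesOfSet_iff.1 hx
    obtain ⟨g, rfl⟩ := isConj_iff.1 hxy
    have hle : A ≤ (closure {x | x ∈ conjugates A ∧ orderOf x = 2}).comap
        (MulAut.conj g).toMonoidHom := hA.trans ((closure_le _).2 (by
      rintro z ⟨hz, hz2⟩
      exact subset_closure ⟨⟨g⁻¹, by
        simpa [mul_assoc] using hz⟩,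
        (Invol.orderOf_conj_eq g z).trans hz2⟩))
    exact hle hy
  intro x hx y hy
  have h := comm_mem_of_closure (O := (⊥ : Subgroup G)) (H := ⊤)
    (fun g _ z hz => by rw [mem_bot] at hz ⊢; subst hz; simp)
    (fun _ _ => mem_top _) (fun _ _ => mem_top _)
    (fun s hs t ht => by
      have := comm_mem_oddCore G _ _ hF s hs.1 t ht.1 hs.2 ht.2
      rwa [hO] at this)
    x (hgen S₁ g₁ hx) y (hgen S₂ g₂ hy)
  rwa [mem_bot, mul_inv_eq_one, mul_inv_eq_iff_eq_mul] at h

end CfsgLib.CommClosed
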