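import Cfsg.Agent.CommClosed.Good

/-!
Lifting 2-subgroups, and four groups inside closed families.
-/

set_option autoImplicit false
set_option linter.unusedSectionVars false
set_option linter.style.haveILetI false

namespace CfsgLib.CommClosed

open Subgroup

variable {G : Type*} [Group G] [Finite G]

/-- If `P` is a 2-group modulo the odd normal subgroup `N`, every 2-subgroup `Q₀` lies in a
2-subgroup of `P` which meets each 2-element of `P` up to conjugation by `N`. -/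
theorem exists_absorbing {P N : Subgroup G} (hn : NormalizedBy N P)
    (hq : ∀ p ∈ P, ∃ k : ℕ, p ^ 2 ^ k ∈ N) {Q₀ : Subgroup G}
    (hQ₀ : IsPGroup 2 Q₀) (hQ₀P : Q₀ ≤ P) :
    ∃ Q : Subgroup G, IsPGroup 2 Q ∧ Q₀ ≤ Q ∧ Q ≤ P ∧
      ∀ x ∈ P, IsPGroup 2 (zpowers x) → ∃ n ∈ N, n * x * n⁻¹ ∈ Q := by
  haveI : Fact (Nat.Prime 2) := ⟨Nat.prime_two⟩
  set N' := N.subgroupOf P with hN'
  haveI : N'.Normal := ⟨fun x hx h => hn h h.2 x hx⟩
  have hR₀ : IsPGroup 2 (Q₀.subgroupOf P) :=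
    hQ₀.comap_of_injective P.subtype P.subtype_injective
  obtain ⟨S, hS⟩ := hR₀.exists_le_sylow
  have hquot : IsPGroup 2 (↥P ⧸ N') := by
    intro q
    obtain ⟨p, rfl⟩ := QuotientGroup.mk'_surjective N' q
    obtain ⟨k, hk⟩ := hq p p.2
    refine ⟨k, ?_⟩
    rw [← map_pow]
    exact (QuotientGroup.eq_one_iff _).2 (mem_subgroupOf.2 (by simpa using hk))
  have htop : (S : Subgroup P) ⊔ N' = ⊤ := by
    rw [← index_eq_one]
    obtain ⟨k, hk⟩ := IsPGroup.iff_card.1 hquot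
    have h1 : ((S : Subgroup P) ⊔ N').index ∣ 2 ^ k := by
      rw [← hk, ← index_eq_card]
      exact index_dvd_of_le le_sup_right
    have h2 : ¬ 2 ∣ ((S : Subgroup P) ⊔ N').index :=
      fun h => S.not_dvd_index (h.trans (index_dvd_of_le le_sup_left))
    obtain ⟨j, -, hj⟩ := (Nat.dvd_prime_pow Nat.prime_two).1 h1
    rcases j with _ | j
    · simpa using hj
    · exact absurd ⟨2 ^ j, by rw [hj, pow_succ']⟩ h2
  refine ⟨(S : Subgroup P).map P.subtype, S.isPGroup'.map _, ?_, map_subtype_le _, ?_⟩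
  · exact fun y hy => ⟨⟨y, hQ₀P hy⟩, hS (mem_subgroupOf.2 hy), rfl⟩
  intro x hx h2
  have hx2 : IsPGroup 2 (zpowers (⟨x, hx⟩ : P)) := by
    rintro ⟨y, hy⟩
    obtain ⟨m, rfl⟩ := Subgroup.mem_zpowers_iff.1 hy
    obtain ⟨n, hn⟩ := h2 ⟨x ^ m, ⟨m, rfl⟩⟩
    exact ⟨n, Subtype.ext (Subtype.ext (by simpa using congrArg Subtype.val hn))⟩
  obtain ⟨T, hT⟩ := hx2.exists_le_sylow
  obtain ⟨t, ht⟩ := MulAction.exists_smul_eq P T S
  have htx : t * ⟨x, hx⟩ * t⁻¹ ∈ (S : Subgroup P) := by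
    rw [← ht]; exact ⟨⟨x, hx⟩, hT (mem_zpowers _), rfl⟩
  have htm : t ∈ ((S : Subgroup P) ⊔ N' : Subgroup P) := by rw [htop]; exact mem_top t
  obtain ⟨q, hq', n, hn', rfl⟩ := mem_sup_of_normal_right.1 htm
  refine ⟨n, hn', ⟨n * ⟨x, hx⟩ * n⁻¹, ?_, rfl⟩⟩
  have := mul_mem (mul_mem (inv_mem hq') htx) hq'
  rwa [show q⁻¹ * (q * n * ⟨x, hx⟩ * (q * n)⁻¹) * q = n * ⟨x, hx⟩ * n⁻¹ by group] at this

theorem isPGroup_pair {x y : G} (hx : x * x = 1) (hy : y * y = 1) (h : x * y = y * x) :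
    IsPGroup 2 (closure ({x, y} : Set G)) := by
  refine isPGroup_closure_comm ?_ ?_
  · rintro s (rfl | rfl) <;> assumption
  · rintro s (rfl | rfl) t (rfl | rfl) <;> first | rfl | assumption | exact h.symm

variable {T : Set G}

/-- A non-isolated involution of a closed family lies in a four group of that family inside any
Sylow 2-subgroup containing it. -/
theorem exists_four (hconj : ∀ x ∈ T, ∀ g : G, g * x * g⁻¹ ∈ T)
    (hmul : ∀ Q : Subgroup G, IsPGroup 2 Q → ∀ x ∈ T, ∀ y ∈ T, x ∈ Q → y ∈ Q → x * y ∈ T)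
    {b : G} (hb : b ∈ T) (hb2 : orderOf b = 2) (hni : ¬ Cfsg.IsIsolatedInvolution b)
    (P : Sylow 2 G) (hbP : b ∈ P) :
    ∃ A : Subgroup G, IsFour T A ∧ b ∈ A ∧ A ≤ (P : Subgroup G) := by
  haveI : Fact (Nat.Prime 2) := ⟨Nat.prime_two⟩
  obtain ⟨g, hgP, hgne⟩ : ∃ g : G, g * b * g⁻¹ ∈ P ∧ g * b * g⁻¹ ≠ b := by
    by_contra hcon
    push Not at hcon
    exact hni (Invol.isolated_of_sylow P hb2 hcon)
  set x := g * b * g⁻¹ with hx
  have hxT : x ∈ T := hconj b hb g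
  have hx2 : orderOf x = 2 := (Invol.orderOf_conj_eq g b).trans hb2
  have heven : Even (orderOf (b * x)) := by
    obtain ⟨k, hk⟩ := P.isPGroup' ⟨b * x, mul_mem hbP hgP⟩
    have hd : orderOf (b * x) ∣ 2 ^ k :=
      orderOf_dvd_of_pow_eq_one (by simpa using congrArg Subtype.val hk)
    obtain ⟨j, -, hj⟩ := (Nat.dvd_prime_pow Nat.prime_two).1 hd
    rcases j with _ | j
    · exfalso
      rw [pow_zero, orderOf_eq_one_iff, mul_eq_one_iff_eq_inv, Invol.inv_eq_self hx2] at hj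
      exact hgne hj.symm
    · exact ⟨2 ^ j, by rw [hj, pow_succ, mul_two]⟩
  set z := (b * x) ^ (orderOf (b * x) / 2) with hz
  obtain ⟨hz2, hzb, -⟩ := Invol.half_props hb2 hx2 heven
  have hzP : z ∈ P := pow_mem (mul_mem hbP hgP) _
  have hpow : ∀ n : ℕ, 0 < n → (b * x) ^ n ∈ T := by
    intro n hn
    induction n, hn using Nat.le_induction with
    | base => rw [pow_one]; exact hmul _ P.isPGroup' b hb x hxT hbP hgP
    | succ m _ ih =>
      rw [pow_succ]
      exact hmul _ P.isPGroup' _ ih _ (hmul _ P.isPGroup' b hb x hxT hbP hgP)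
        (pow_mem (mul_mem hbP hgP) m) (mul_mem hbP hgP)
  have hzT : z ∈ T := hpow _ (by
    have := orderOf_pos (b * x)
    obtain ⟨m, hm⟩ := heven
    omega)
  have hzb' : z ≠ b := by
    intro h
    refine Invol.not_mem_zpowers hb2 hx2 (Ne.symm hgne) ?_
    have hm : z ∈ zpowers (b * x) := (zpowers (b * x)).pow_mem (mem_zpowers _) _
    rwa [h] at hm
  have hc : b * z = z * b := hzb.eq.symm
  have hbb := Invol.mul_self_eq_one hb2
  have hzz := Invol.mul_self_eq_one hz2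
  set A := closure ({b, z} : Set G)
  refine ⟨A, ⟨?_, ?_, ?_⟩, subset_closure (Or.inl rfl), (closure_le _).2 ?_⟩
  · intro y hy
    rcases (Invol.mem_closure_pair_iff hb2 hz2).1 hy with ⟨k, rfl⟩ | ⟨k, rfl⟩
    · have h : (b * z) ^ 2 = 1 := by rw [(show Commute b z from hc).mul_pow, sq, sq, hbb, hzz, one_mul]
      rw [← zpow_add, show k + k = (2 : ℤ) * k by ring, zpow_mul, zpow_ofNat, h, one_zpow]
    · exact Invol.mul_zpow_mul_self hbb (Invol.conj_mul_inv hb2 hz2) k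
  · intro y hy hy1
    have h : (b * z) ^ (2 : ℤ) = 1 := by rw [zpow_two, mul_assoc, ← mul_assoc z, ← hc, mul_assoc b z z, hzz, mul_one, hbb]
    have hk : ∀ k : ℤ, (b * z) ^ k = 1 ∨ (b * z) ^ k = b * z := by
      intro k
      rcases Int.even_or_odd' k with ⟨m, rfl | rfl⟩
      · left; rw [zpow_mul, h, one_zpow]
      · right; rw [zpow_add, zpow_mul, h, one_zpow, one_mul, zpow_one]
    rcases (Invol.mem_closure_pair_iff hb2 hz2).1 hy with ⟨k, rfl⟩ | ⟨k, rfl⟩
    · rcases hk k with e | e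
      · exact absurd e hy1
      · rw [e]; exact hmul _ P.isPGroup' b hb z hzT hbP hzP
    · rcases hk k with e | e
      · rw [e, mul_one]; exact hb
      · rw [e, ← mul_assoc, hbb, one_mul]; exact hzT
  · exact ⟨b, subset_closure (Or.inl rfl), z, subset_closure (Or.inr rfl),
      Invol.ne_one hb2, Invol.ne_one hz2, fun e => hzb' e.symm⟩
  · rintro y (rfl | rfl) <;> assumption

end CfsgLib.CommClosed
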