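import Cfsg.Agent.CommClosed.Signalizer
import Cfsg.Agent.CommClosed.Lifts

/-!
Commuting closed families of involutions commute modulo the odd core.
-/

set_option autoImplicit false
set_option linter.unusedSectionVars false
set_option linter.style.haveILetI false

namespace CfsgLib.CommClosed

open Subgroup

universe u

section Step

variable {G : Type u} [Group G] [Finite G] {T₁ T₂ : Set G}

/-- The hypotheses at a minimal counterexample. -/
structure Minimal (T₁ T₂ : Set G) : Prop where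
  fam : Families T₁ T₂
  loc : Local T₁ T₂
  core_bot : Cfsg.oddCore G = ⊥
  noncentral : ∀ f, f ∈ T₁ ∨ f ∈ T₂ → orderOf f = 2 → cent f ≠ ⊤

theorem central_of_isolated (hO : Cfsg.oddCore G = ⊥) {f : G} (hf : Cfsg.IsIsolatedInvolution f) :
    cent f = ⊤ := by
  refine eq_top_iff.2 fun g _ => mem_cent.2 ?_
  have h := IsoApps.comm_mem_oddCore hf g
  rw [hO, mem_bot, mul_inv_eq_one, mul_inv_eq_iff_eq_mul] at h
  exact h.symm

theorem Minimal.not_isolated (hM : Minimal T₁ T₂) {f : G} (hf : f ∈ T₁ ∨ f ∈ T₂) :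
    ¬ Cfsg.IsIsolatedInvolution f :=
  fun h => hM.noncentral f hf h.1 (central_of_isolated hM.core_bot h)

theorem Minimal.setup (hM : Minimal T₁ T₂) {A₁ A₂ : Subgroup G} (h₁ : IsFour T₁ A₁)
    (h₂ : IsFour T₂ A₂) {P : Sylow 2 G} (hA₁ : A₁ ≤ (P : Subgroup G)) (hA₂ : A₂ ≤ (P : Subgroup G)) :
    Setup T₁ T₂ A₁ A₂ := by
  have hF := hM.fam
  have hcomm : ∀ a ∈ A₁, ∀ g ∈ A₂, a * g = g * a := by
    intro a ha g hg
    rcases eq_or_ne a 1 with rfl | ha1
    · simp
    rcases eq_or_ne g 1 with rfl | hg1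
    · simp
    exact hF.comm _ P.isPGroup' a (h₁.mem a ha ha1) g (h₂.mem g hg hg1) (hA₁ ha) (hA₂ hg)
  refine ⟨hF, hM.loc, h₁, h₂, hcomm, ?_⟩
  intro f hf hf1 htop
  have hn : A₁ ≤ normalizer (A₂ : Set G) := le_normalizer_of_normalizedBy fun a ha x hx => by
    rwa [hcomm a ha x hx, mul_inv_cancel_right]
  have hf' : f ∈ ((A₁ ⊔ A₂ : Subgroup G) : Set G) := hf
  rw [coe_mul_of_left_le_normalizer_right A₁ A₂ hn] at hf'
  obtain ⟨a, ha, g, hg, rfl⟩ := Set.mem_mul.1 hf'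
  rcases eq_or_ne a 1 with rfl | ha1
  · rw [one_mul] at hf1 htop
    exact hM.noncentral g (Or.inr (h₂.mem g hg hf1))
      (Invol.orderOf_eq_two (h₂.sq g hg) hf1) htop
  rcases eq_or_ne g 1 with rfl | hg1
  · rw [mul_one] at hf1 htop
    exact hM.noncentral a (Or.inl (h₁.mem a ha hf1))
      (Invol.orderOf_eq_two (h₁.sq a ha) hf1) htop
  have ha2 := Invol.orderOf_eq_two (h₁.sq a ha) ha1
  refine hM.not_isolated (Or.inl (h₁.mem a ha ha1)) (Invol.isolated_of_sylow P ha2 fun x hx => ?_)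
  have hfx : x * (a * g) * x⁻¹ = a * g := by
    have hxc : x ∈ cent (a * g) := by rw [htop]; exact mem_top x
    exact conj_eq_iff.2 (mem_cent.1 hxc)
  have hx' : x * g * x⁻¹ = (x * a * x⁻¹)⁻¹ * (a * g) := by
    rw [eq_inv_mul_iff_mul_eq, conj_mul, hfx]
  have hxg : x * g * x⁻¹ ∈ P := by
    rw [hx']; exact mul_mem (inv_mem hx) (mul_mem (hA₁ ha) (hA₂ hg))
  have hd1 : x * a * x⁻¹ * a ∈ T₁ :=
    hF.mul₁ _ P.isPGroup' _ (hF.conj₁ a (h₁.mem a ha ha1) x) _ (h₁.mem a ha ha1) hx (hA₁ ha)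
  have hd2 : x * g * x⁻¹ * g ∈ T₂ :=
    hF.mul₂ _ P.isPGroup' _ (hF.conj₂ g (h₂.mem g hg hg1) x) _ (h₂.mem g hg hg1) hxg (hA₂ hg)
  have hai : (x * a * x⁻¹)⁻¹ = x * a * x⁻¹ :=
    inv_eq_of_mul_eq_one_right (by rw [conj_mul, h₁.sq a ha, mul_one, mul_inv_cancel])
  have he : x * g * x⁻¹ * g = x * a * x⁻¹ * a := by
    rw [hx', hai, mul_assoc, mul_assoc a g g, h₂.sq g hg, mul_one]
  have h1 := hF.disj _ hd1 (he ▸ hd2)
  rwa [mul_eq_one_iff_eq_inv, Invol.inv_eq_self ha2] at h1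

/-- The group generated by the cores of the centralizers of the elements of `A`. -/
def bigCore (A : Subgroup G) : Subgroup G :=
  closure {z | ∃ a ∈ A, a ≠ 1 ∧ z ∈ core (cent a)}

theorem centralizer_le_normalizer (A : Subgroup G) :
    centralizer (A : Set G) ≤ normalizer (bigCore A : Set G) := by
  refine le_normalizer_of_normalizedBy (normalizedBy_closure ?_)
  rintro c hc z ⟨a, ha, ha1, hz⟩
  exact subset_closure ⟨a, ha, ha1,
    core_normalized _ c (mem_cent.2 (mem_centralizer_iff.1 hc a ha).symm) z hz⟩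

theorem whole_le_bigCore {A₁ A₂ : Subgroup G} (hS : Setup T₁ T₂ A₁ A₂) :
    whole A₁ A₂ ≤ bigCore A₁ := by
  refine (closure_le _).2 fun x hx => ?_
  obtain ⟨a, ha, ha1, hax⟩ := hS.four₁.exists_fix (x := x) fun v hv => hx.2.1 v (mem_sup_left hv)
  exact subset_closure ⟨a, ha, ha1, good_mem hS hx (mem_sup_left ha) ha1 hax⟩

theorem bigCore_le_normalizer {A₁ A₂ : Subgroup G} (hS : Setup T₁ T₂ A₁ A₂) :
    bigCore A₁ ≤ normalizer (whole A₁ A₂ : Set G) := by
  refine (closure_le _).2 ?_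
  rintro z ⟨a, ha, ha1, hz⟩
  exact core_le_normalizer hS ha ha1 hz

/-- An element `a` of `A₁` against an involution of the second family. -/
theorem pair_step (hM : Minimal T₁ T₂) {A₁ : Subgroup G} (h₁ : IsFour T₁ A₁) {a : G} (ha : a ∈ A₁)
    (ha1 : a ≠ 1) {b : G} (hb : b ∈ T₂) (hb2 : orderOf b = 2) :
    ∃ A₂ : Subgroup G, Setup T₁ T₂ A₁ A₂ ∧ ∃ o ∈ core (cent a), ∃ y ∈ whole A₁ A₂,
      ∃ c ∈ centralizer (A₁ : Set G), b = o⁻¹ * (y * c * y⁻¹) * o := by
  haveI : Fact (Nat.Prime 2) := ⟨Nat.prime_two⟩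
  have hF := hM.fam
  have haT := h₁.mem a ha ha1
  have haa := h₁.sq a ha
  have ha2 := Invol.orderOf_eq_two haa ha1
  have hbb := Invol.mul_self_eq_one hb2
  set r := a * b with hr
  have har : a * r * a⁻¹ = r⁻¹ := Invol.conj_mul_inv ha2 hb2
  have hbr : b * r * b⁻¹ = r⁻¹ := by
    rw [hr, Invol.mul_inv_rev_invol ha2 hb2, ← mul_assoc, mul_assoc (b * a) b, mul_inv_cancel,
      mul_one]
  have heven : Even (orderOf r) := by
    refine Invol.even_orderOf_mul_of_not_isConj ha2 hb2 fun h => ?_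
    obtain ⟨g, hg⟩ := isConj_iff.1 h
    exact Invol.ne_one hb2 (hF.disj b (hg ▸ hF.conj₁ a haT g) hb)
  obtain ⟨m, hm⟩ := heven
  set z := r ^ m with hz
  obtain ⟨hz2, hza, hzb⟩ := Invol.half_props ha2 hb2 ⟨m, hm⟩
  rw [← hr, show orderOf r / 2 = m by omega] at hz2 hza hzb
  have hn : r ^ ((m : ℤ) + m) = 1 := by
    rw [show (m : ℤ) + m = ((m + m : ℕ) : ℤ) by push_cast; ring, zpow_natCast, ← hm,
      pow_orderOf_eq_one]
  -- the half order is odd
  obtain ⟨j, hj⟩ : Odd m := by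
    rw [← Nat.not_even_iff_odd]
    rintro ⟨j, hj⟩
    have key : ∀ {T : Set G}, (∀ x ∈ T, ∀ g : G, g * x * g⁻¹ ∈ T) →
        (∀ Q : Subgroup G, IsPGroup 2 Q → ∀ x ∈ T, ∀ y ∈ T, x ∈ Q → y ∈ Q → x * y ∈ T) →
        ∀ {e : G}, e ∈ T → e * e = 1 → e * r * e⁻¹ = r⁻¹ → Commute z e → z ∈ T := by
      intro T hc hmul e heT hee her hze
      have h1 : e * z ∈ T := by
        have := hc e heT (r ^ (-(j : ℤ)))
        rwa [Invol.zpow_conj_invol hee her, show -(2 * -(j : ℤ)) = ((m : ℕ) : ℤ) by omega,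
          zpow_natCast] at this
      have hzz := Invol.mul_self_eq_one hz2
      have hez : e * z * (e * z) = 1 := by
        rw [mul_assoc e z, ← mul_assoc z e z, hze.eq, mul_assoc e z z, hzz, mul_one, hee]
      have hec : e * (e * z) = e * z * e := by
        rw [mul_assoc, hze.eq]
      have := hmul _ (isPGroup_pair hee hez hec) e heT (e * z) h1
        (subset_closure (Or.inl rfl)) (subset_closure (Or.inr rfl))
      rwa [← mul_assoc, hee, one_mul] at this
    exact Invol.ne_one hz2 (hF.disj z (key hF.conj₁ hF.mul₁ haT haa har hza)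
      (key hF.conj₂ hF.mul₂ hb hbb hbr hzb))
  set b' := a * z with hb'
  have hb'2 : b' * b' = 1 := by
    rw [hb', mul_assoc, ← mul_assoc z, hza.eq, mul_assoc a z z, Invol.mul_self_eq_one hz2, mul_one,
      haa]
  set i : ℕ := j * (j + 1) with hi
  set y := r ^ (2 * i) with hy
  have hay : a * y * a⁻¹ = y⁻¹ := by rw [hy, ← conj_pow, har, inv_pow]
  have hzy : z * y = y * z := by rw [hz, hy, ← pow_add, ← pow_add, add_comm]
  have hb'y : b' * y * b'⁻¹ = y⁻¹ := by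
    rw [hb', show a * z * y * (a * z)⁻¹ = a * (z * y * z⁻¹) * a⁻¹ by group, hzy,
      mul_inv_cancel_right, hay]
  have hyodd : Odd (orderOf y) := by
    refine Odd.of_dvd_nat (⟨j, hj⟩ : Odd m) (orderOf_dvd_of_pow_eq_one ?_)
    rw [hy, ← pow_mul, show 2 * i * m = (m + m) * i by ring, pow_mul, ← hm, pow_orderOf_eq_one,
      one_pow]
  have hby : b = y * b' * y⁻¹ := by
    have h1 : y * b' * y⁻¹ = b' * (y * y)⁻¹ := by
      have : b' * y⁻¹ = y * b' := by
        rw [← hb'y, ← mul_assoc, ← mul_assoc, hb'2, one_mul, inv_eq_of_mul_eq_one_right hb'2]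
      rw [← this]; group
    rw [h1, hb', hy, hz, mul_assoc, ← pow_add, ← zpow_natCast, ← zpow_natCast, ← zpow_neg,
      ← zpow_add, show ((m : ℕ) : ℤ) + -((2 * i + 2 * i : ℕ) : ℤ) = 1 + ((m : ℤ) + m) * (-(j : ℤ)) by
        rw [hi, hj]; push_cast; ring,
      zpow_add, zpow_mul, hn, one_zpow, zpow_one, mul_one, hr, ← mul_assoc, haa, one_mul]
  have hb'T : b' ∈ T₂ := by
    have := hF.conj₂ b hb y⁻¹
    rwa [hby, show y⁻¹ * (y * b' * y⁻¹) * y⁻¹⁻¹ = b' by group] at this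
  -- move `b'` to the centralizer of `A₁` by an element of `O(C(a))`
  set H := cent a with hH
  have hHt : H ≠ ⊤ := hM.noncentral a (Or.inl haT) ha2
  have hA₁H : ∀ x ∈ A₁, x ∈ H := fun x hx => mem_cent.2 (h₁.comm x hx a ha)
  have hb'H : b' ∈ H := mem_cent.2 (by rw [hb', mul_assoc, hza.eq])
  set S : Set G := (A₁ : Set G) ∪ {b'} with hS
  set P := closure ((core H : Set G) ∪ S) with hP
  have hSH : ∀ s ∈ S, s ∈ H := by
    rintro s (hs | rfl)
    exacts [hA₁H s hs, hb'H]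
  have hPH : P ≤ H := (closure_le _).2 (Set.union_subset (core_le H) hSH)
  have hNn : NormalizedBy (core H) P := fun p hp => core_normalized H p (hPH hp)
  have hgen : ∀ s ∈ S, ∀ t ∈ S, s * t * s⁻¹ * t⁻¹ ∈ core H := by
    have hab : ∀ x ∈ A₁, x * b' * x⁻¹ * b'⁻¹ ∈ core H := by
      intro x hx
      rcases eq_or_ne x 1 with rfl | hx1
      · simp
      exact hM.loc H hHt x (h₁.mem x hx hx1) b' hb'T (h₁.sq x hx) hb'2 (hA₁H x hx) hb'H
    rintro s (hs | rfl) t (ht | rfl)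
    · rw [h₁.comm s hs t ht, mul_inv_cancel_right, mul_inv_cancel]; exact one_mem _
    · exact hab s hs
    · have := inv_mem (hab t ht)
      simpa [mul_inv_rev, mul_assoc] using this
    · simp
  have hcomm : ∀ k ∈ P, ∀ l ∈ P, k * l * k⁻¹ * l⁻¹ ∈ core H := by
    refine comm_mem_of_closure (core_normalized H) (Set.union_subset (core_le H) hSH)
      (Set.union_subset (core_le H) hSH) ?_
    rintro s (hs | hs) t (ht | ht)
    · exact mul_mem (mul_mem (mul_mem hs ht) (inv_mem hs)) (inv_mem ht)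
    · rw [show s * t * s⁻¹ * t⁻¹ = s * (t * s⁻¹ * t⁻¹) by group]
      exact mul_mem hs (core_normalized H t (hSH t ht) _ (inv_mem hs))
    · exact mul_mem (core_normalized H s (hSH s hs) t ht) (inv_mem ht)
    · exact hgen s hs t ht
  have hsq : ∀ p ∈ P, p * p ∈ core H := by
    intro p hp
    induction hp using closure_induction with
    | mem s hs =>
      rcases hs with hs | hs | hs
      · exact mul_mem hs hs
      · rw [h₁.sq s hs]; exact one_mem _
      · rw [Set.mem_singleton_iff.1 hs, hb'2]; exact one_mem _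
    | one => simp
    | mul u v hu hv h1 h2 =>
      rw [show u * v * (u * v) = u * (v * u * v⁻¹ * u⁻¹) * u⁻¹ * (u * u) * (v * v) by group]
      exact mul_mem (mul_mem (hNn u hu _ (hcomm v hv u hu)) h1) h2
    | inv u _ h1 => rw [← mul_inv_rev]; exact inv_mem h1
  have hA₁2 : IsPGroup 2 A₁ := fun x => ⟨1, Subtype.ext (by simp [sq, h₁.sq x x.2])⟩
  obtain ⟨Q, hQ, hA₁Q, -, hQabs⟩ := exists_absorbing hNn
    (fun p hp => ⟨1, by rw [pow_one, sq]; exact hsq p hp⟩) hA₁2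
    (fun x hx => subset_closure (Or.inr (Or.inl hx)))
  obtain ⟨o, ho, hoQ⟩ := hQabs b' (subset_closure (Or.inr (Or.inr rfl))) (hF.two₂ b' hb'T)
  set c := o * b' * o⁻¹ with hc
  have hcT : c ∈ T₂ := hF.conj₂ b' hb'T o
  have hc2 : orderOf c = 2 := (Invol.orderOf_conj_eq o b').trans (Invol.orderOf_eq_two hb'2
    fun h => Invol.ne_one hb2 (by rw [hby, h, mul_one, mul_inv_cancel]))
  have hcC : c ∈ centralizer (A₁ : Set G) := by
    refine mem_centralizer_iff.2 fun x hx => ?_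
    rcases eq_or_ne x 1 with rfl | hx1
    · simp
    exact hF.comm Q hQ x (h₁.mem x hx hx1) c hcT (hA₁Q hx) hoQ
  obtain ⟨R, hR⟩ := hQ.exists_le_sylow
  obtain ⟨A₂, h₂, hcA₂, hA₂R⟩ := exists_four hF.conj₂ hF.mul₂ hcT hc2
    (hM.not_isolated (Or.inr hcT)) R (hR hoQ)
  have hSet := hM.setup h₁ h₂ (hA₁Q.trans hR) hA₂R
  refine ⟨A₂, hSet, o, ho, o * y * o⁻¹, ?_, c, hcC, by rw [hby, hc]; group⟩
  have hoa : o * a = a * o := mem_cent.1 (core_le H ho)
  set y' := o * y * o⁻¹ with hy'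
  have hy'odd : Odd (orderOf y') := by rwa [hy', Invol.orderOf_conj_eq]
  have hay' : a * y' * a⁻¹ = y'⁻¹ := by
    rw [hy', show a * (o * y * o⁻¹) * a⁻¹ = (a * o) * y * (a * o)⁻¹ by group, ← hoa,
      show o * a * y * (o * a)⁻¹ = o * (a * y * a⁻¹) * o⁻¹ by group, hay, ← conj_inv]
  have hcy' : c * y' * c⁻¹ = y'⁻¹ := by
    rw [hy', hc, show o * b' * o⁻¹ * (o * y * o⁻¹) * (o * b' * o⁻¹)⁻¹ =
      o * (b' * y * b'⁻¹) * o⁻¹ by group, hb'y, ← conj_inv]
  set f := a * c with hf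
  have hfA : f ∈ A₁ ⊔ A₂ := mul_mem (mem_sup_left ha) (mem_sup_right hcA₂)
  have hf1 : f ≠ 1 := fun h => by
    have hac : a = c := by
      rw [mul_eq_one_iff_eq_inv, Invol.inv_eq_self hc2] at h; exact h
    exact ha1 (hF.disj a haT (hac ▸ hcT))
  set K := cent f
  have hyK : y' ∈ K := by
    refine mem_cent.2 (conj_eq_iff.1 ?_).symm
    rw [hf, show a * c * y' * (a * c)⁻¹ = a * (c * y' * c⁻¹) * a⁻¹ by group, hcy', ← conj_inv, hay',
      inv_inv]
  have hKA : A₁ ⊔ A₂ ≤ K := hSet.le_cent hfA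
  have h3 := part_comm hM.loc (hSet.proper f hfA hf1) _
    (sq_mem_part hF.conj₁ hyK haT haa (hKA (mem_sup_left ha)) hay') c
    (subset_closure (Or.inl ⟨hcT, Invol.mul_self_eq_one hc2, hKA (mem_sup_right hcA₂)⟩))
  have h4 : y' * y' * c * (y' * y')⁻¹ * c⁻¹ = y' * y' * (y' * y') := by
    rw [show y' * y' * c * (y' * y')⁻¹ * c⁻¹ = y' * y' * ((c * y' * c⁻¹)⁻¹ * (c * y' * c⁻¹)⁻¹) by
      group, hcy', inv_inv]
  rw [h4] at h3
  have hyc : y' ∈ core K := mem_of_sq_mem hy'odd (mem_of_sq_mem (hy'odd.of_dvd_nat (by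
    rw [← sq]; exact orderOf_pow_dvd 2)) h3)
  refine mem_of_eigen hSet (odd_core K) (fun v hv => core_normalized K v (hKA hv)) hyc ?_
  intro x hx hxo hxe hxs
  rcases eq_or_ne x 1 with rfl | hx1
  · exact one_mem _
  exact subset_closure ⟨hxo, hxe,
    fun h => absurd (eq_one_of_eq_inv hxo ((h c hcA₂).symm.trans
      ((hxs c (mem_sup_right hcA₂)).2 hcy'))) hx1,
    fun h => absurd (eq_one_of_eq_inv hxo ((h a ha).symm.trans
      ((hxs a (mem_sup_left ha)).2 hay'))) hx1⟩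

theorem commute_of_minimal (hM : Minimal T₁ T₂) {a b : G} (ha : a ∈ T₁) (hb : b ∈ T₂)
    (ha2 : orderOf a = 2) (hb2 : orderOf b = 2)
    (hgen : normalClosure ({b} : Set G) ⊔ zpowers a = ⊤) : a * b = b * a := by
  haveI : Fact (Nat.Prime 2) := ⟨Nat.prime_two⟩
  have hz2 := hM.fam.two₁ a ha
  obtain ⟨P, hP⟩ := hz2.exists_le_sylow
  obtain ⟨A₁, h₁, haA, -⟩ := exists_four hM.fam.conj₁ hM.fam.mul₁ ha ha2
    (hM.not_isolated (Or.inl ha)) P (hP (mem_zpowers a))
  have ha1 := Invol.ne_one ha2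
  set U := bigCore A₁ with hU
  have hconj : ∀ g : G, g * b * g⁻¹ ∈ normalizer (U : Set G) := by
    intro g
    obtain ⟨A₂, hS, o, ho, y, hy, c, hc, hbe⟩ := pair_step hM h₁ haA ha1 (hM.fam.conj₂ b hb g)
      ((Invol.orderOf_conj_eq g b).trans hb2)
    have hoN : o ∈ normalizer (U : Set G) :=
      le_normalizer (subset_closure ⟨a, haA, ha1, ho⟩)
    have hyN : y ∈ normalizer (U : Set G) := le_normalizer (whole_le_bigCore hS hy)
    have hcN : c ∈ normalizer (U : Set G) := centralizer_le_normalizer A₁ hc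
    rw [hbe]
    exact mul_mem (mul_mem (inv_mem hoN) (mul_mem (mul_mem hyN hcN) (inv_mem hyN))) hoN
  have htop : normalizer (U : Set G) = ⊤ := by
    rw [eq_top_iff, ← hgen, sup_le_iff]
    refine ⟨(closure_le _).2 ?_, zpowers_le.2 (centralizer_le_normalizer A₁ ?_)⟩
    · intro x hx
      obtain ⟨y, hy, hxy⟩ := Group.mem_conjugatesOfSet_iff.1 hx
      rw [Set.mem_singleton_iff] at hy
      subst hy
      obtain ⟨g, rfl⟩ := isConj_iff.1 hxy
      exact hconj g
    · exact mem_centralizer_iff.2 fun x hx => h₁.comm x hx a haA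
  have hUn : U.Normal := normalizer_eq_top_iff.1 htop
  obtain ⟨A₂, hS, o, ho, y, hy, c, hc, hbe⟩ := pair_step hM h₁ haA ha1 hb hb2
  have hy1 : y = 1 := eq_one_of_odd_subnormal hM.core_bot hUn (whole_le_bigCore hS) (odd_whole hS)
    (fun u hu x hx => ((bigCore_le_normalizer hS hu) x).1 hx) hy
  rw [hy1, one_mul, inv_one, mul_one] at hbe
  have hco : Commute a o := (mem_cent.1 (core_le _ ho)).symm
  have hac : Commute a c := mem_centralizer_iff.1 hc a haA
  rw [hbe]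
  exact ((hco.inv_right.mul_right hac).mul_right hco).eq

end Step

end CfsgLib.CommClosed
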