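import Cfsg.Agent.CommClosed.Good
import Cfsg.Agent.S0205
import Cfsg.Agent.S0217

/-!
The signalizer functor generated by good eigen elements.
-/

set_option autoImplicit false
set_option linter.unusedSectionVars false
set_option linter.style.haveILetI false

namespace CfsgLib.CommClosed

open Subgroup

variable {G : Type*} [Group G] [Finite G] {T₁ T₂ : Set G} {A₁ A₂ : Subgroup G}

theorem good_conj {v x : G} (hv : v ∈ acting A₁ A₂) (hx : Good A₁ A₂ x) :
    Good A₁ A₂ (v * x * v⁻¹) := by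
  rcases hx.2.1 v hv with e | e <;> rw [e]
  exacts [hx, hx.inv]

theorem closure_good_invariant (p : G → Prop) (hp : ∀ x, p x → p x⁻¹) :
    NormalizedBy (closure {y | Good A₁ A₂ y ∧ p y}) (acting A₁ A₂) := by
  refine normalizedBy_closure fun v hv y hy => subset_closure ?_
  rcases hy.1.2.1 v hv with e | e <;> rw [e]
  exacts [hy, ⟨hy.1.inv, hp y hy.2⟩]

theorem conj_inv_fix {v y : G} (h : v * y * v⁻¹ = y) : v * y⁻¹ * v⁻¹ = y⁻¹ := by
  rw [← conj_inv, h]

/-- In an odd group whose eigen elements fixed like `x` are good, `x` lies in the good closure. -/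
theorem mem_of_eigen (hS : Setup T₁ T₂ A₁ A₂) {X K : Subgroup G} (hX : Odd (Nat.card X))
    (hn : NormalizedBy X (acting A₁ A₂)) {x : G} (hx : x ∈ X)
    (h : ∀ y ∈ X, Odd (orderOf y) → IsEigen (acting A₁ A₂) y → SameAction (acting A₁ A₂) x y → y ∈ K) :
    x ∈ K :=
  (closure_le _).2 (fun y hy => h y hy.1 (odd_of_mem hX hy.1) hy.2.1 hy.2.2)
    (mem_closure_eigen (V := acting A₁ A₂) hX (fun v hv => hS.acting_sq v hv)
      (fun v hv w hw => hS.acting_comm v hv w hw) hn hx)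

/-- The statement proved by induction: all eigen elements of a good odd group are good. -/
def AllGood (A₁ A₂ U : Subgroup G) : Prop :=
  ∀ x ∈ U, IsEigen (acting A₁ A₂) x → Good A₁ A₂ x

theorem fix_mem_core (hS : Setup T₁ T₂ A₁ A₂) {U : Subgroup G} (hodd : Odd (Nat.card U))
    (hgen : U ≤ closure {y | Good A₁ A₂ y ∧ y ∈ U})
    (IH : ∀ V : Subgroup G, V < U → V ≤ closure {y | Good A₁ A₂ y ∧ y ∈ V} → AllGood A₁ A₂ V)
    {g : G} (hg : g ∈ A₂) (hg1 : g ≠ 1)
    (hlt : closure {y | Good A₁ A₂ y ∧ y ∈ U ∧ g * y * g⁻¹ = y⁻¹} < U) :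
    ∀ x ∈ U, g * x * g⁻¹ = x → x ∈ core (cent g) := by
  have hgA : g ∈ A₁ ⊔ A₂ := mem_sup_right hg
  set T := closure {y | Good A₁ A₂ y ∧ y ∈ U ∧ g * y * g⁻¹ = y⁻¹} with hT
  set F := closure {y | Good A₁ A₂ y ∧ y ∈ U ∧ g * y * g⁻¹ = y} with hF
  have hTgen : T ≤ closure {y | Good A₁ A₂ y ∧ y ∈ T} :=
    closure_mono fun y hy => ⟨hy.1, subset_closure hy⟩
  have hTgood : AllGood A₁ A₂ T := IH T hlt hTgen
  have hTn : NormalizedBy T F := by
    refine fun r hr => ?_
    have hmem : r ∈ normalizer (T : Set G) := by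
      refine (closure_le _).2 ?_ hr
      rintro r ⟨hr, hrU, hgr⟩
      have hgr' : g * r⁻¹ * g⁻¹ = r⁻¹ := conj_inv_fix hgr
      have key : ∀ r : G, Good A₁ A₂ r → r ∈ U → g * r * g⁻¹ = r →
          ∀ u : G, Good A₁ A₂ u → u ∈ U → g * u * g⁻¹ = u⁻¹ → r * u * r⁻¹ ∈ T := by
        clear hgr' hr hrU hgr r
        intro r hr hrU hgr u hu huU hgu
        set UB := closure {y | Good A₁ A₂ y ∧ y ∈ U ∧ ∀ v ∈ acting A₁ A₂,
          v * r * v⁻¹ = r → v * u * v⁻¹ = u → v * y * v⁻¹ = y} with hUB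
        have hUBle : UB ≤ U := (closure_le _).2 fun y hy => hy.2.1
        have hUBn : NormalizedBy UB (acting A₁ A₂) :=
          closure_good_invariant
            (fun y => y ∈ U ∧ ∀ v ∈ acting A₁ A₂, v * r * v⁻¹ = r → v * u * v⁻¹ = u → v * y * v⁻¹ = y)
            fun y hy => ⟨inv_mem hy.1, fun v hv h1 h2 => conj_inv_fix (hy.2 v hv h1 h2)⟩
        have hrB : r ∈ UB := subset_closure ⟨hr, hrU, fun v _ h _ => h⟩
        have huB : u ∈ UB := subset_closure ⟨hu, huU, fun v _ _ h => h⟩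
        have hz : r * u * r⁻¹ ∈ UB := mul_mem (mul_mem hrB huB) (inv_mem hrB)
        refine mem_of_eigen hS (hodd.of_dvd_nat (card_dvd_of_le hUBle)) hUBn hz ?_
        intro y hy hyo hye hys
        rcases eq_or_ne y 1 with hy1 | hy1
        · rw [hy1]; exact one_mem _
        have hgy : g * y * g⁻¹ = y⁻¹ := by
          refine (hys g hgA).2 ?_
          rw [← conj_mul, ← conj_mul, hgr, hgu, conj_inv_fix hgr]
          group
        refine subset_closure ⟨?_, hUBle hy, hgy⟩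
        rcases lt_or_eq_of_le hUBle with hl | he
        · exact IH UB hl (closure_mono fun z hz => ⟨hz.1, subset_closure hz⟩) y hy hye
        refine ⟨hyo, hye, fun h => ?_, fun h => ?_⟩
        · exact absurd (eq_one_of_eq_inv hyo ((h g hg).symm.trans hgy)) hy1
        · obtain ⟨a, ha, ha1, har⟩ := hS.four₁.exists_fix (x := r)
            fun v hv => hr.2.1 v (mem_sup_left hv)
          have hB : ∀ z ∈ U, ∀ v ∈ acting A₁ A₂, v * r * v⁻¹ = r → v * u * v⁻¹ = u →
              v * z * v⁻¹ = z := by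
            intro z hz v hv h1 h2
            rw [← he] at hz
            induction hz using closure_induction with
            | mem w hw => exact hw.2.2 v hv h1 h2
            | one => simp
            | mul p q _ _ hp hq => rw [← conj_mul, hp, hq]
            | inv p _ hp => exact conj_inv_fix hp
          rcases hu.2.1 a (mem_sup_left ha) with hau | hau
          · refine ⟨a, ha, ha1, ?_⟩
            have hyU := hgen (hUBle hy)
            refine (closure_le _).2 ?_ hyU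
            rintro z ⟨hz, hzU⟩
            exact good_mem hS hz (mem_sup_left ha) ha1
              (hB z hzU a (mem_sup_left ha) har hau)
          · exfalso
            have hag : ∀ z : G, (a * g) * z * (a * g)⁻¹ = a * (g * z * g⁻¹) * a⁻¹ :=
              fun z => by group
            have h1 : (a * g) * r * (a * g)⁻¹ = r := by rw [hag, hgr, har]
            have h2 : (a * g) * u * (a * g)⁻¹ = u := by rw [hag, hgu, ← conj_inv, hau, inv_inv]
            have h3 := hB y (hUBle hy) (a * g) (mul_mem (mem_sup_left ha) hgA) h1 h2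
            rw [hag, hgy, ← conj_inv, h a ha] at h3
            exact hy1 (eq_one_of_eq_inv hyo h3.symm)
      have hle : ∀ r : G, Good A₁ A₂ r → r ∈ U → g * r * g⁻¹ = r → ∀ t ∈ T, r * t * r⁻¹ ∈ T := by
        intro r hr hrU hgr t ht
        exact normalizedBy_closure (H := {r}) (fun w hw z hz => by
          rw [Set.mem_singleton_iff.1 hw]
          exact key r hr hrU hgr z hz.1 hz.2.1 hz.2.2) r rfl t ht
      intro x
      refine ⟨fun hx => hle r hr hrU hgr x hx, fun hx => ?_⟩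
      have := hle r⁻¹ hr.inv (inv_mem hrU) hgr' _ hx
      rwa [show r⁻¹ * (r * x * r⁻¹) * r⁻¹⁻¹ = x by group] at this
    exact fun t ht => (hmem t).1 ht
  have hUTF : U ≤ T ⊔ F := by
    refine hgen.trans ((closure_le _).2 ?_)
    rintro y ⟨hy, hyU⟩
    rcases hy.2.1 g hgA with e | e
    · exact mem_sup_right (subset_closure ⟨hy, hyU, e⟩)
    · exact mem_sup_left (subset_closure ⟨hy, hyU, e⟩)
  have hFfix : ∀ y ∈ F, g * y * g⁻¹ = y := by
    intro y hy
    induction hy using closure_induction with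
    | mem w hw => exact hw.2.2
    | one => simp
    | mul p q _ _ hp hq => rw [← conj_mul, hp, hq]
    | inv p _ hp => exact conj_inv_fix hp
  have hFcore : F ≤ core (cent g) :=
    (closure_le _).2 fun y hy => good_mem hS hy.1 hgA hg1 hy.2.2
  intro x hxU hgx
  have hx' : x ∈ ((T ⊔ F : Subgroup G) : Set G) := hUTF hxU
  rw [coe_mul_of_right_le_normalizer_left T F (le_normalizer_of_normalizedBy hTn)] at hx'
  obtain ⟨t, ht, f, hf, rfl⟩ := Set.mem_mul.1 hx'
  refine mul_mem ?_ (hFcore hf)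
  have hgt : g * t * g⁻¹ = t := by
    rw [← conj_mul, hFfix f hf] at hgx
    exact mul_right_cancel hgx
  refine mem_of_eigen hS (hodd.of_dvd_nat (card_dvd_of_le hlt.le))
    (closure_good_invariant (fun y => y ∈ U ∧ g * y * g⁻¹ = y⁻¹) fun y hy =>
      ⟨inv_mem hy.1, by rw [← conj_inv, hy.2]⟩) ht ?_
  intro y hy _ hye hys
  exact good_mem hS (hTgood y hy hye) hgA hg1 ((hys g hgA).1 hgt)

/-- Some fixed point of a four group on an odd group generated by good elements gives a proper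
subgroup of inverted elements. -/
theorem exists_proper (hS : Setup T₁ T₂ A₁ A₂) {U : Subgroup G} (hodd : Odd (Nat.card U))
    (hgen : U ≤ closure {y | Good A₁ A₂ y ∧ y ∈ U}) (hU : U ≠ ⊥) :
    ∃ g ∈ A₂, g ≠ 1 ∧ closure {y | Good A₁ A₂ y ∧ y ∈ U ∧ g * y * g⁻¹ = y⁻¹} < U := by
  haveI : Group.IsSolvable ↥U := Cfsg.Agent.S0205.result hodd
  haveI : Nontrivial ↥U := nontrivial_iff_ne_bot U |>.2 hU
  have hDlt : ⁅U, U⁆ < U := by
    have h := (map_lt_map_iff_of_injective (f := U.subtype) U.subtype_injective).2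
      (Group.IsSolvable.commutator_lt_top_of_nontrivial (G := ↥U))
    rwa [← MonoidHom.range_eq_map, range_subtype, map_subtype_commutator] at h
  obtain ⟨u, hu, huU, huD⟩ : ∃ u, Good A₁ A₂ u ∧ u ∈ U ∧ u ∉ ⁅U, U⁆ := by
    by_contra hcon
    push Not at hcon
    exact hDlt.not_ge (hgen.trans ((closure_le _).2 fun y hy => hcon y hy.1 hy.2))
  obtain ⟨g, hg, hg1, hgu⟩ := hS.four₂.exists_fix (x := u) fun v hv => hu.2.1 v (mem_sup_right hv)
  refine ⟨g, hg, hg1, lt_of_le_of_ne ((closure_le _).2 fun y hy => hy.2.1) fun he => ?_⟩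
  have hD : ∀ x ∈ U, ∀ z ∈ U, x * z * x⁻¹ * z⁻¹ ∈ ⁅U, U⁆ := fun x hx z hz =>
    commutator_mem_commutator hx hz
  have hDn : NormalizedBy ⁅U, U⁆ U := by
    intro x hx z hz
    have := mul_mem (hD x hx z (hDlt.le hz)) hz
    rwa [inv_mul_cancel_right] at this
  have key : ∀ z, z ∈ U → z ∈ closure {y | Good A₁ A₂ y ∧ y ∈ U ∧ g * y * g⁻¹ = y⁻¹} →
      g * z * g⁻¹ ∈ U ∧ g * z * g⁻¹ * z ∈ ⁅U, U⁆ := by
    intro z _ hz
    induction hz using closure_induction with
    | mem w hw =>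
      rw [hw.2.2, inv_mul_cancel]
      exact ⟨inv_mem hw.2.1, one_mem _⟩
    | one => simp
    | mul p q hp' hq' hp hq =>
      have hpU : p ∈ U := he.le hp'
      have hqU : q ∈ U := he.le hq'
      obtain ⟨hp1, hp2⟩ := hp (he.le hp')
      obtain ⟨hq1, hq2⟩ := hq (he.le hq')
      refine ⟨by rw [← conj_mul]; exact mul_mem hp1 hq1, ?_⟩
      rw [← conj_mul]
      have h : g * p * g⁻¹ * (g * q * g⁻¹) * (p * q) =
          (g * p * g⁻¹ * ((g * q * g⁻¹) * p * (g * q * g⁻¹)⁻¹ * p⁻¹) * (g * p * g⁻¹)⁻¹) *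
            (g * p * g⁻¹ * p) * ((g * q * g⁻¹) * q) := by group
      rw [h]
      exact mul_mem (mul_mem (hDn _ hp1 _ (hD _ hq1 _ hpU)) hp2) hq2
    | inv p hp' hp =>
      obtain ⟨hp1, hp2⟩ := hp (he.le hp')
      refine ⟨by rw [← conj_inv]; exact inv_mem hp1, ?_⟩
      have hpU : p ∈ U := he.le hp'
      rw [show g * p⁻¹ * g⁻¹ * p⁻¹ =
        (p * (g * p * g⁻¹) * p⁻¹ * (g * p * g⁻¹)⁻¹ * (g * p * g⁻¹ * p))⁻¹ by group]
      exact inv_mem (mul_mem (hD p hpU _ hp1) hp2)
  have h2 := (key u huU (by rw [he]; exact huU)).2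
  rw [hgu] at h2
  exact huD (mem_of_sq_mem hu.1 h2)

/-- In an odd group generated by good elements every eigen element is good. -/
theorem allGood (hS : Setup T₁ T₂ A₁ A₂) : ∀ (U : Subgroup G), Odd (Nat.card U) →
    U ≤ closure {y | Good A₁ A₂ y ∧ y ∈ U} → AllGood A₁ A₂ U := by
  suffices H : ∀ n, ∀ U : Subgroup G, Nat.card U = n → Odd (Nat.card U) →
      U ≤ closure {y | Good A₁ A₂ y ∧ y ∈ U} → AllGood A₁ A₂ U from fun U => H _ U rfl
  intro n
  induction n using Nat.strong_induction_on with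
  | _ n ih =>
    intro U hn hodd hgen x hx hxe
    subst hn
    rcases eq_or_ne U ⊥ with hbot | hU
    · rw [hbot, mem_bot] at hx
      subst hx
      obtain ⟨p, hp, -, -, hp1, -⟩ := hS.four₁.exists_pair
      obtain ⟨q, hq, -, -, hq1, -⟩ := hS.four₂.exists_pair
      exact ⟨by simp, hxe, fun _ => ⟨q, hq, hq1, one_mem _⟩, fun _ => ⟨p, hp, hp1, one_mem _⟩⟩
    have IH : ∀ V : Subgroup G, V < U → V ≤ closure {y | Good A₁ A₂ y ∧ y ∈ V} →
        AllGood A₁ A₂ V := fun V hV hVg => ih _ (Solvable.card_lt_of_lt hV) V rfl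
      (hodd.of_dvd_nat (card_dvd_of_le hV.le)) hVg
    refine ⟨odd_of_mem hodd hx, hxe, fun h => ?_, fun h => ?_⟩
    · obtain ⟨g, hg, hg1, hlt⟩ := exists_proper hS hodd hgen hU
      exact ⟨g, hg, hg1, fix_mem_core hS hodd hgen IH hg hg1 hlt x hx (h g hg)⟩
    · have hgen' : U ≤ closure {y | Good A₂ A₁ y ∧ y ∈ U} := by simpa only [good_swap_iff] using hgen
      have IH' : ∀ V : Subgroup G, V < U → V ≤ closure {y | Good A₂ A₁ y ∧ y ∈ V} →
          AllGood A₂ A₁ V := by
        intro V hV hVg y hy hye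
        refine (IH V hV (by simpa only [good_swap_iff] using hVg) y hy ?_).swap
        rwa [acting, sup_comm]
      obtain ⟨a, ha, ha1, hlt⟩ := exists_proper hS.swap hodd hgen' hU
      exact ⟨a, ha, ha1, fix_mem_core hS.swap hodd hgen' IH' ha ha1 hlt x hx (h a ha)⟩

/-- The value of the functor. -/
def theta (A₁ A₂ : Subgroup G) (f : G) : Subgroup G :=
  closure {x | Good A₁ A₂ x ∧ f * x * f⁻¹ = x}

/-- The group generated by all good elements. -/
def whole (A₁ A₂ : Subgroup G) : Subgroup G := closure {x | Good A₁ A₂ x}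

theorem whole_normalized : NormalizedBy (whole A₁ A₂) (acting A₁ A₂) :=
  normalizedBy_closure fun _ hv _ hy => subset_closure (good_conj hv hy)

theorem theta_le_core (hS : Setup T₁ T₂ A₁ A₂) {f : G} (hf : f ∈ A₁ ⊔ A₂) (hf1 : f ≠ 1) :
    theta A₁ A₂ f ≤ core (cent f) :=
  (closure_le _).2 fun _ hx => good_mem hS hx.1 hf hf1 hx.2

theorem eight_le_card (hS : Setup T₁ T₂ A₁ A₂) : 2 ^ 3 ≤ Nat.card ↥(A₁ ⊔ A₂) := by
  haveI := Fintype.ofFinite G
  have hinj : Function.Injective (fun p : A₁ × A₂ =>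
      (⟨(p.1 : G) * p.2, mul_mem (mem_sup_left p.1.2) (mem_sup_right p.2.2)⟩ : ↥(A₁ ⊔ A₂))) := by
    rintro ⟨a, g⟩ ⟨b, h⟩ e
    have e' : (a : G) * g = b * h := congrArg Subtype.val e
    have hd : (b : G)⁻¹ * a = h * (g : G)⁻¹ := by
      rw [eq_mul_inv_iff_mul_eq, mul_assoc, e', inv_mul_cancel_left]
    have h1 : (b : G)⁻¹ * a = 1 := by
      by_contra hne
      exact hne (hS.fam.disj _ (hS.four₁.mem _ (mul_mem (inv_mem b.2) a.2) hne)
        (hd ▸ hS.four₂.mem _ (mul_mem h.2 (inv_mem g.2)) (hd ▸ hne)))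
    have hab : a = b := Subtype.ext (inv_mul_eq_one.1 h1).symm
    subst hab
    exact Prod.ext rfl (Subtype.ext (mul_left_cancel e'))
  have three : ∀ {T : Set G} {A : Subgroup G}, IsFour T A → 3 ≤ Nat.card A := by
    intro T A hA
    obtain ⟨p, hp, q, hq, hp1, hq1, hpq⟩ := hA.exists_pair
    let φ : Fin 3 → A := ![1, ⟨p, hp⟩, ⟨q, hq⟩]
    have hφ : Function.Injective φ := by
      intro i j h
      fin_cases i <;> fin_cases j <;> first | rfl | (exfalso; simp [φ, Subtype.ext_iff] at h; tauto)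
    simpa using Nat.card_le_card_of_injective φ hφ
  have := Nat.card_le_card_of_injective _ hinj
  rw [Nat.card_prod] at this
  have := Nat.mul_le_mul (three hS.four₁) (three hS.four₂)
  omega

theorem odd_whole (hS : Setup T₁ T₂ A₁ A₂) : Odd (Nat.card (whole A₁ A₂)) := by
  haveI : Fact (Nat.Prime 2) := ⟨Nat.prime_two⟩
  set A := A₁ ⊔ A₂
  have hoddθ : ∀ f ∈ A, f ≠ 1 → Odd (Nat.card (theta A₁ A₂ f)) := fun f hf hf1 =>
    (odd_core (cent f)).of_dvd_nat (card_dvd_of_le (theta_le_core hS hf hf1))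
  have hθn : ∀ f : G, NormalizedBy (theta A₁ A₂ f) (acting A₁ A₂) := fun f =>
    closure_good_invariant (fun y => f * y * f⁻¹ = y) fun y hy => conj_inv_fix hy
  have h := Cfsg.Agent.S0217.result A hS.acting_comm (fun v hv => by rw [sq]; exact hS.acting_sq v hv)
    (eight_le_card hS) (theta A₁ A₂)
    (fun f hf hf1 => (theta_le_core hS hf hf1).trans (core_le _))
    (fun f hf hf1 => (Nat.odd_iff.1 (hoddθ f hf hf1)) |> fun e => by omega)
    (fun f _ _ v hv x hx => hθn f v hv x hx)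
    (fun f hf hf1 => Cfsg.Agent.S0205.result (hoddθ f hf hf1))
    (fun f hf hf1 v hv hv1 => by
      rintro x ⟨hx, hxv⟩
      refine mem_of_eigen hS (hoddθ f hf hf1) (hθn f) hx fun y hy _ hye hys => ?_
      refine subset_closure ⟨allGood hS _ (hoddθ f hf hf1)
        (closure_mono fun z hz => ⟨hz.1, subset_closure hz⟩) y hy hye, (hys v hv).1 ?_⟩
      exact conj_eq_iff.2 (mem_cent.1 hxv).symm)
  have hle : whole A₁ A₂ ≤ ⨆ a : {a : G // a ∈ A ∧ a ≠ 1}, theta A₁ A₂ a := by
    refine (closure_le _).2 fun x hx => ?_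
    obtain ⟨a, ha, ha1, hax⟩ := hS.four₁.exists_fix (x := x) fun v hv => hx.2.1 v (mem_sup_left hv)
    exact le_iSup (fun a : {a : G // a ∈ A ∧ a ≠ 1} => theta A₁ A₂ a) ⟨a, mem_sup_left ha, ha1⟩
      (subset_closure ⟨hx, hax⟩)
  have := h.1
  exact (Nat.not_even_iff_odd.1 fun e => this (e.two_dvd)).of_dvd_nat (card_dvd_of_le hle)

/-- An element centralising `a` and `A₂` normalises the group of good elements. -/
theorem conj_good_mem (hS : Setup T₁ T₂ A₁ A₂) {a c : G} (ha : a ∈ A₁) (ha1 : a ≠ 1)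
    (hca : c * a = a * c) (hc : ∀ g ∈ A₂, c * g = g * c) {x : G} (hx : Good A₁ A₂ x) :
    c * x * c⁻¹ ∈ whole A₁ A₂ := by
  obtain ⟨g, hg, hg1, hgx⟩ := hS.four₂.exists_fix (x := x) fun v hv => hx.2.1 v (mem_sup_right hv)
  have haA : a ∈ A₁ ⊔ A₂ := mem_sup_left ha
  have hgA : g ∈ A₁ ⊔ A₂ := mem_sup_right hg
  have hcg : c ∈ cent g := mem_cent.2 (hc g hg)
  have hcca : c ∈ cent a := mem_cent.2 hca
  have hxg := core_normalized _ c hcg x (good_mem hS hx hgA hg1 hgx)
  have hconj : ∀ v : G, c * v = v * c → v * (c * x * c⁻¹) * v⁻¹ = c * (v * x * v⁻¹) * c⁻¹ := by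
    intro v hv
    rw [show v * (c * x * c⁻¹) * v⁻¹ = (v * c) * x * (v * c)⁻¹ by group, ← hv]
    group
  have hn : ∀ {f : G}, f ∈ A₁ ⊔ A₂ → NormalizedBy (core (cent f)) (acting A₁ A₂) := fun hf v hv =>
    core_normalized _ v (hS.le_cent hf hv)
  rcases hx.2.1 a haA with e | e
  · have hxa := core_normalized _ c hcca x (good_mem hS hx haA ha1 e)
    refine mem_of_eigen hS (X := core (cent g) ⊓ core (cent a))
      ((odd_core (cent g)).of_dvd_nat (card_dvd_of_le inf_le_left))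
      (fun v hv z hz => ⟨hn hgA v hv z hz.1, hn haA v hv z hz.2⟩) ⟨hxg, hxa⟩ ?_
    intro y hy hyo hye _
    exact subset_closure ⟨hyo, hye, fun _ => ⟨g, hg, hg1, hy.1⟩, fun _ => ⟨a, ha, ha1, hy.2⟩⟩
  · refine mem_of_eigen hS (odd_core (cent g)) (hn hgA) hxg ?_
    intro y hy hyo hye hys
    have hay : a * y * a⁻¹ = y⁻¹ := (hys a haA).2 (by rw [hconj a hca, e, ← conj_inv])
    rcases eq_or_ne y 1 with hy1 | hy1
    · rw [hy1]; exact one_mem _
    exact subset_closure ⟨hyo, hye, fun _ => ⟨g, hg, hg1, hy⟩,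
      fun h => absurd (eq_one_of_eq_inv hyo ((h a ha).symm.trans hay)) hy1⟩

/-- `O(C(a))` normalises the group of good elements, for `a ∈ A₁`. -/
theorem core_le_normalizer (hS : Setup T₁ T₂ A₁ A₂) {a : G} (ha : a ∈ A₁) (ha1 : a ≠ 1) :
    core (cent a) ≤ normalizer (whole A₁ A₂ : Set G) := by
  have haA : a ∈ A₁ ⊔ A₂ := mem_sup_left ha
  intro z hz
  refine mem_of_eigen hS (odd_core (cent a))
    (fun v hv => core_normalized _ v (hS.le_cent haA hv)) hz ?_
  intro y hy hyo hye _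
  by_cases h : ∀ g ∈ A₂, g * y * g⁻¹ = y
  · have hn : ∀ w : G, w ∈ core (cent a) → (∀ g ∈ A₂, w * g = g * w) →
        NormalizedBy (whole A₁ A₂) ({w} : Set G) := by
      intro w hw hwg
      refine normalizedBy_closure ?_
      rintro _ rfl x hx
      exact conj_good_mem hS ha ha1 (mem_cent.1 (core_le _ hw)) hwg hx
    refine le_normalizer_of_normalizedBy (H := zpowers y) ?_ (mem_zpowers y)
    intro w hw x hx
    refine hn w (zpowers_le.2 hy hw) (fun g hg => ?_) w rfl x hx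
    have hyg : y ∈ cent g := mem_cent.2 (conj_eq_iff.1 (h g hg)).symm
    exact mem_cent.1 (zpowers_le.2 hyg hw)
  · exact le_normalizer (subset_closure
      ⟨hyo, hye, fun h' => absurd h' h, fun _ => ⟨a, ha, ha1, hy⟩⟩)

end CfsgLib.CommClosed
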