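import Mathlib

/-!
The trace of a Sylow 2-subgroup on a normal subgroup.
-/

set_option autoImplicit false
set_option linter.style.haveILetI false

namespace CfsgLib.CommClosed

open Subgroup
open scoped Pointwise

variable {G : Type*} [Group G] [Finite G]

theorem sylow_trace (K : Subgroup G) [hK : K.Normal] (S₀ : Sylow 2 G) :
    ∃ S : Sylow 2 K, (S : Subgroup K) = (S₀ : Subgroup G).subgroupOf K := by
  haveI : Fact (Nat.Prime 2) := ⟨Nat.prime_two⟩
  have hp : IsPGroup 2 ((S₀ : Subgroup G).subgroupOf K) :=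
    S₀.isPGroup'.comap_of_injective K.subtype K.subtype_injective
  obtain ⟨R, hR⟩ := hp.exists_le_sylow
  obtain ⟨T, hT⟩ := (R.isPGroup'.map K.subtype).exists_le_sylow
  obtain ⟨g, rfl⟩ := MulAction.exists_smul_eq G S₀ T
  refine ⟨R, (Subgroup.eq_of_le_of_card_ge hR ?_).symm⟩
  rw [← Subgroup.card_map_of_injective K.subtype_injective,
    ← Subgroup.card_map_of_injective K.subtype_injective (K := (S₀ : Subgroup G).subgroupOf K),
    ← Subgroup.card_map_of_injective (f := (MulAut.conj g).toMonoidHom) (MulAut.conj g).injective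
      (K := ((S₀ : Subgroup G).subgroupOf K).map K.subtype)]
  refine Subgroup.card_le_of_le fun y hy => ?_
  have hy2 := hT hy
  rw [Sylow.coe_subgroup_smul, Subgroup.mem_pointwise_smul_iff_inv_smul_mem] at hy2
  obtain ⟨k, -, rfl⟩ := hy
  refine ⟨g⁻¹ * k * g, ⟨⟨g⁻¹ * k * g, hK.conj_mem' k k.2 g⟩, ?_, rfl⟩, by simp [mul_assoc]⟩
  simpa [MulAut.smul_def, mem_subgroupOf] using hy2

end CfsgLib.CommClosed
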